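import Cfsg.Agent.Lib.Cert.ON.M
import Cfsg.Agent.Lib.Cert.L37.M
import Cfsg.Agent.Lib.Cert.J1.M
import Cfsg.Agent.Lib.Cert.N11.M
import Cfsg.Agent.Lib.Cert.Emb

set_option autoImplicit false
set_option maxRecDepth 100000

namespace Cfsg.Agent.Ct.ON

open Cfsg.Agent.PC

open Cfsg.Agent.Fi Cfsg.Agent.Ct
def aW_t : TL := (TL.node (TL.node (TL.node (TL.leaf [nat_lit 2, nat_lit 4, nat_lit 0, nat_lit 1, nat_lit 5, nat_lit 1, nat_lit 0, nat_lit 1, nat_lit 4, nat_lit 0, nat_lit 1, nat_lit 0, nat_lit 5, nat_lit 1, nat_lit 0, nat_lit 1, nat_lit 5, nat_lit 4, nat_lit 0, nat_lit 1, nat_lit 0, nat_lit 4, nat_lit 2, nat_lit 5]) (TL.leaf [nat_lit 4, nat_lit 0, nat_lit 2, nat_lit 4, nat_lit 0, nat_lit 1, nat_lit 3, nat_lit 5, nat_lit 1, nat_lit 0, nat_lit 1, nat_lit 4, nat_lit 0, nat_lit 5, nat_lit 1, nat_lit 0, nat_lit 1, nat_lit 4, nat_lit 5, nat_lit 0,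 nat_lit 1, nat_lit 0, nat_lit 5, nat_lit 1, nat_lit 2, nat_lit 4, nat_lit 0, nat_lit 1, nat_lit 5, nat_lit 3])) (TL.node (TL.leaf [nat_lit 0, nat_lit 4, nat_lit 1, nat_lit 0, nat_lit 1, nat_lit 4, nat_lit 0, nat_lit 2, nat_lit 5, nat_lit 1, nat_lit 0, nat_lit 1, nat_lit 4, nat_lit 0, nat_lit 1, nat_lit 0, nat_lit 5, nat_lit 1, nat_lit 0, nat_lit 1, nat_lit 5, nat_lit 4, nat_lit 0, nat_lit 1, nat_lit 0, nat_lit 1, nat_lit 3, nat_lit 5, nat_lit 3, nat_lit 1]) (TL.leaf [nat_lit 4, nat_lit 1, nat_lit 3, nat_lit 5, nat_lit 1, nat_lit 0, nat_lit 1, nat_lit 0, nat_lit 4, nat_lit 0, nat_lit 1, nat_lit 5, nat_lit 1, nat_lit 3]))) (TL.node (TL.node (TL.leaf [nat_lit 4, nat_lit 2, nat_lit 4, nat_lit 5, nat_lit 3, nat_lit 1, nat_lit 0, nat_lit 5, nat_lit 1, nat_lit 0, nat_lit 5, nat_lit 4, nat_lit 0, nat_lit 1, nat_lit 2, nat_lit 3, nat_lit 5, nat_lit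 4]) (TL.leaf [nat_lit 0, nat_lit 2, nat_lit 4, nat_lit 5, nat_lit 1, nat_lit 0, nat_lit 1, nat_lit 4, nat_lit 0, nat_lit 2, nat_lit 4, nat_lit 5, nat_lit 1, nat_lit 0, nat_lit 1, nat_lit 5, nat_lit 4, nat_lit 0, nat_lit 1, nat_lit 0, nat_lit 4, nat_lit 0, nat_lit 1, nat_lit 0, nat_lit 1, nat_lit 5])) (TL.leaf [nat_lit 0, nat_lit 1, nat_lit 0, nat_lit 1, nat_lit 0, nat_lit 4, nat_lit 0, nat_lit 2, nat_lit 5, nat_lit 1, nat_lit 0, nat_lit 1, nat_lit 4, nat_lit 0, nat_lit 1, nat_lit 5, nat_lit 1, nat_lit 0, nat_lit 1, nat_lit 4, nat_lit 0, nat_lit 3, nat_lit 5, nat_lit 1, nat_lit 2, nat_lit 4, nat_lit 0, nat_lit 1, nat_lit 4, nat_lit 0])))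
noncomputable def aW (i : ℕ) : List ℕ := TL.get aW_t i
theorem aq : Pr L37.al L37.inv L37.rels 7 := ⟨L37.simple, L37.ctr, L37.top, L37.ub, L37.iv, L37.rl, by decide +kernel⟩
theorem ae : ∃ φ : L37.P →* Cfsg.Spor.ON, Function.Injective φ ∧ φ.range ≤ gen al 6 :=
  (md0).emb aq (W := aW) (by decide) (by decide +kernel) (by decide +kernel) (by decide +kernel) (by decide +kernel)
def bW_t : TL := (TL.node (TL.node (TL.leaf [nat_lit 7, nat_lit 7, nat_lit 5, nat_lit 1, nat_lit 0, nat_lit 6, nat_lit 4, nat_lit 0, nat_lit 1, nat_lit 0, nat_lit 7, nat_lit 5, nat_lit 6, nat_lit 1, nat_lit 0, nat_lit 4, nat_lit 7, nat_lit 0, nat_lit 1, nat_lit 5, nat_lit 7, nat_lit 7]) (TL.leaf [nat_lit 4, nat_lit 2, nat_lit 4, nat_lit 5, nat_lit 1, nat_lit 0, nat_lit 1, nat_lit 4, nat_lit 0, nat_lit 5, nat_lit 1, nat_lit 0, nat_lit 3, nat_lit 4, nat_lit 5, nat_lit 1,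 nat_lit 0, nat_lit 6, nat_lit 5, nat_lit 1, nat_lit 0, nat_lit 7, nat_lit 1, nat_lit 4, nat_lit 6, nat_lit 0, nat_lit 1, nat_lit 5, nat_lit 1, nat_lit 6, nat_lit 4, nat_lit 5])) (TL.node (TL.leaf [nat_lit 4, nat_lit 0, nat_lit 2, nat_lit 4, nat_lit 0, nat_lit 1, nat_lit 5, nat_lit 1, nat_lit 0, nat_lit 1, nat_lit 4, nat_lit 0, nat_lit 5, nat_lit 1, nat_lit 0, nat_lit 3, nat_lit 4, nat_lit 6, nat_lit 4, nat_lit 0, nat_lit 1, nat_lit 5, nat_lit 1, nat_lit 0, nat_lit 1, nat_lit 3, nat_lit 4, nat_lit 5, nat_lit 1, nat_lit 0, nat_lit 4, nat_lit 2, nat_lit 1, nat_lit 0, nat_lit 7, nat_lit 5, nat_lit 4]) (TL.leaf [nat_lit 4, nat_lit 0, nat_lit 5, nat_lit 3, nat_lit 1, nat_lit 0, nat_lit 5, nat_lit 1, nat_lit 0, nat_lit 5, nat_lit 4, nat_lit 0, nat_lit 1, nat_lit 0, nat_lit 5, nat_lit 3, nat_lit 6, nat_lit 4, nat_lit 5, nat_lit 1, nat_lit 0, nat_lit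 7, nat_lit 1, nat_lit 5, nat_lit 6, nat_lit 1, nat_lit 5, nat_lit 0])))
noncomputable def bW (i : ℕ) : List ℕ := TL.get bW_t i
theorem bq : Pr J1.al (fun j => j) J1.rels 4 := ⟨J1.simple, J1.ctr, J1.top, J1.ub, J1.iv, J1.rl, by decide +kernel⟩
theorem be : ∃ φ : J1.P →* Cfsg.Spor.ON, Function.Injective φ ∧ φ.range ≤ gen al 8 :=
  (md0).emb bq (W := bW) (by decide) (by decide +kernel) (by decide +kernel) (by decide +kernel) (by decide +kernel)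
def cW_t : TL := (TL.node (TL.node (TL.node (TL.leaf [nat_lit 0, nat_lit 2, nat_lit 1, nat_lit 0, nat_lit 4, nat_lit 2, nat_lit 5, nat_lit 1, nat_lit 0, nat_lit 1, nat_lit 4, nat_lit 0, nat_lit 5, nat_lit 1, nat_lit 0, nat_lit 6, nat_lit 5, nat_lit 1, nat_lit 0, nat_lit 1, nat_lit 4, nat_lit 5, nat_lit 7, nat_lit 0, nat_lit 1, nat_lit 0, nat_lit 5, nat_lit 1, nat_lit 0, nat_lit 1, nat_lit 5, nat_lit 2, nat_lit 4, nat_lit 2, nat_lit 6]) (TL.leaf [nat_lit 0, nat_lit 1, nat_lit 0, nat_lit 4, nat_lit 5, nat_lit 3, nat_lit 1, nat_lit 0, nat_lit 1, nat_lit 4, nat_lit 0, nat_lit 1, nat_lit 5, nat_lit 1, nat_lit 0, nat_lit 1, nat_lit 4, nat_lit 0, nat_lit 1, nat_lit 5, nat_lit 2, nat_lit 6, nat_lit 4, nat_lit 0, nat_lit 5, nat_lit 1, nat_lit 0, nat_lit 1, nat_lit 0, nat_lit 4, nat_lit 0, nat_lit 7])) (TL.node (TL.leaf [nat_lit 0, nat_lit 1, nat_lit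 0, nat_lit 3, nat_lit 5, nat_lit 3, nat_lit 1, nat_lit 0, nat_lit 5, nat_lit 1, nat_lit 4, nat_lit 2, nat_lit 0, nat_lit 1, nat_lit 5, nat_lit 1, nat_lit 0, nat_lit 1, nat_lit 4, nat_lit 7, nat_lit 5, nat_lit 1, nat_lit 0, nat_lit 1, nat_lit 7, nat_lit 4, nat_lit 5, nat_lit 7, nat_lit 0, nat_lit 1, nat_lit 5, nat_lit 3, nat_lit 4, nat_lit 7, nat_lit 0]) (TL.leaf [nat_lit 0, nat_lit 2, nat_lit 4, nat_lit 2, nat_lit 5, nat_lit 1, nat_lit 0, nat_lit 1, nat_lit 4, nat_lit 0, nat_lit 1, nat_lit 0, nat_lit 4, nat_lit 5, nat_lit 1, nat_lit 0, nat_lit 1, nat_lit 4, nat_lit 0, nat_lit 5, nat_lit 3, nat_lit 4, nat_lit 6, nat_lit 5, nat_lit 1, nat_lit 0, nat_lit 3, nat_lit 4, nat_lit 5, nat_lit 1, nat_lit 0, nat_lit 1, nat_lit 5, nat_lit 0, nat_lit 6, nat_lit 4, nat_lit 1]))) (TL.node (TL.node (TL.leaf [nat_lit 4, nat_lit 2, nat_lit 4, nat_lit 0, nat_lit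 1, nat_lit 0, nat_lit 5, nat_lit 1, nat_lit 0, nat_lit 1, nat_lit 4, nat_lit 0, nat_lit 2, nat_lit 4, nat_lit 5, nat_lit 1, nat_lit 0, nat_lit 1, nat_lit 5, nat_lit 1, nat_lit 0, nat_lit 4, nat_lit 0, nat_lit 1, nat_lit 6, nat_lit 0, nat_lit 4, nat_lit 5, nat_lit 1, nat_lit 0, nat_lit 1, nat_lit 3, nat_lit 5, nat_lit 6, nat_lit 4, nat_lit 0, nat_lit 1, nat_lit 0, nat_lit 2]) (TL.leaf [nat_lit 0, nat_lit 1, nat_lit 0, nat_lit 7, nat_lit 7, nat_lit 5, nat_lit 1, nat_lit 0, nat_lit 1, nat_lit 4, nat_lit 0, nat_lit 1, nat_lit 0, nat_lit 4, nat_lit 5, nat_lit 1, nat_lit 0, nat_lit 1, nat_lit 5, nat_lit 4, nat_lit 6, nat_lit 4, nat_lit 5, nat_lit 1, nat_lit 0, nat_lit 1, nat_lit 7, nat_lit 5, nat_lit 6, nat_lit 1, nat_lit 5, nat_lit 6])) (TL.node (TL.leaf [nat_lit 0, nat_lit 4, nat_lit 2, nat_lit 1, nat_lit 0, nat_lit 5, nat_lit 1, nat_lit 0, nat_lit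 1, nat_lit 4, nat_lit 0, nat_lit 1, nat_lit 5, nat_lit 1, nat_lit 7, nat_lit 0, nat_lit 1, nat_lit 5, nat_lit 1, nat_lit 0, nat_lit 1, nat_lit 4, nat_lit 0, nat_lit 5, nat_lit 1, nat_lit 6, nat_lit 5, nat_lit 7, nat_lit 1, nat_lit 6, nat_lit 0, nat_lit 7, nat_lit 1]) (TL.leaf [nat_lit 4, nat_lit 1, nat_lit 3, nat_lit 5, nat_lit 3, nat_lit 1, nat_lit 0, nat_lit 1, nat_lit 4, nat_lit 0, nat_lit 5, nat_lit 1, nat_lit 0, nat_lit 4, nat_lit 7, nat_lit 4, nat_lit 5, nat_lit 1, nat_lit 0, nat_lit 1, nat_lit 3, nat_lit 5, nat_lit 6, nat_lit 1, nat_lit 0, nat_lit 6, nat_lit 1, nat_lit 4, nat_lit 0, nat_lit 5, nat_lit 2, nat_lit 4, nat_lit 0]))))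
noncomputable def cW (i : ℕ) : List ℕ := TL.get cW_t i
theorem cq : Pr N11.al N11.inv N11.rels 8 := ⟨N11.simple, N11.ctr, N11.top, N11.ub, N11.iv, N11.rl, by decide +kernel⟩
theorem ce : ∃ φ : N11.P →* Cfsg.Spor.ON, Function.Injective φ ∧ φ.range ≤ gen al 8 :=
  (md0).emb cq (W := cW) (by decide) (by decide +kernel) (by decide +kernel) (by decide +kernel) (by decide +kernel)

end Cfsg.Agent.Ct.ON
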