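import Cfsg.Agent.Lib.Cert.ON.D

set_option autoImplicit false
set_option maxRecDepth 100000

namespace Cfsg.Agent.Ct.ON

open Cfsg.Agent.PC

theorem ya7200 : Nat.beq (rng x1 (nat_lit 7200) (nat_lit 900)) (nat_lit 0) = true := by decide +kernel
theorem ya8100 : Nat.beq (rng x1 (nat_lit 8100) (nat_lit 900)) (nat_lit 0) = true := by decide +kernel
theorem ya9000 : Nat.beq (rng x1 (nat_lit 9000) (nat_lit 900)) (nat_lit 0) = true := by decide +kernel
theorem ya9900 : Nat.beq (rng x1 (nat_lit 9900) (nat_lit 900)) (nat_lit 0) = true := by decide +kernel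
theorem ya10800 : Nat.beq (rng x1 (nat_lit 10800) (nat_lit 900)) (nat_lit 0) = true := by decide +kernel
theorem ya11700 : Nat.beq (rng x1 (nat_lit 11700) (nat_lit 900)) (nat_lit 0) = true := by decide +kernel
theorem ya12600 : Nat.beq (rng x1 (nat_lit 12600) (nat_lit 900)) (nat_lit 0) = true := by decide +kernel
theorem ya13500 : Nat.beq (rng x1 (nat_lit 13500) (nat_lit 900)) (nat_lit 0) = true := by decide +kernel

end Cfsg.Agent.Ct.ON
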