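import Cfsg.Agent.Lib.Cert.ON.D

set_option autoImplicit false
set_option maxRecDepth 100000

namespace Cfsg.Agent.Ct.ON

open Cfsg.Agent.PC

theorem ya72000 : Nat.beq (rng x1 (nat_lit 72000) (nat_lit 900)) (nat_lit 0) = true := by decide +kernel
theorem ya72900 : Nat.beq (rng x1 (nat_lit 72900) (nat_lit 900)) (nat_lit 0) = true := by decide +kernel
theorem ya73800 : Nat.beq (rng x1 (nat_lit 73800) (nat_lit 900)) (nat_lit 0) = true := by decide +kernel
theorem ya74700 : Nat.beq (rng x1 (nat_lit 74700) (nat_lit 900)) (nat_lit 0) = true := by decide +kernel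
theorem ya75600 : Nat.beq (rng x1 (nat_lit 75600) (nat_lit 900)) (nat_lit 0) = true := by decide +kernel
theorem ya76500 : Nat.beq (rng x1 (nat_lit 76500) (nat_lit 900)) (nat_lit 0) = true := by decide +kernel
theorem ya77400 : Nat.beq (rng x1 (nat_lit 77400) (nat_lit 900)) (nat_lit 0) = true := by decide +kernel
theorem ya78300 : Nat.beq (rng x1 (nat_lit 78300) (nat_lit 900)) (nat_lit 0) = true := by decide +kernel

end Cfsg.Agent.Ct.ON
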