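import Cfsg.Agent.Lib.Cert.ON.D

set_option autoImplicit false
set_option maxRecDepth 100000

namespace Cfsg.Agent.Ct.ON

open Cfsg.Agent.PC

theorem ya93600 : Nat.beq (rng x1 (nat_lit 93600) (nat_lit 900)) (nat_lit 0) = true := by decide +kernel
theorem ya94500 : Nat.beq (rng x1 (nat_lit 94500) (nat_lit 900)) (nat_lit 0) = true := by decide +kernel
theorem ya95400 : Nat.beq (rng x1 (nat_lit 95400) (nat_lit 900)) (nat_lit 0) = true := by decide +kernel
theorem ya96300 : Nat.beq (rng x1 (nat_lit 96300) (nat_lit 900)) (nat_lit 0) = true := by decide +kernel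
theorem ya97200 : Nat.beq (rng x1 (nat_lit 97200) (nat_lit 900)) (nat_lit 0) = true := by decide +kernel
theorem ya98100 : Nat.beq (rng x1 (nat_lit 98100) (nat_lit 900)) (nat_lit 0) = true := by decide +kernel
theorem ya99000 : Nat.beq (rng x1 (nat_lit 99000) (nat_lit 900)) (nat_lit 0) = true := by decide +kernel
theorem ya99900 : Nat.beq (rng x1 (nat_lit 99900) (nat_lit 900)) (nat_lit 0) = true := by decide +kernel

end Cfsg.Agent.Ct.ON
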