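import Cfsg.Agent.Lib.Cert.ON.D

set_option autoImplicit false
set_option maxRecDepth 100000

namespace Cfsg.Agent.Ct.ON

open Cfsg.Agent.PC

theorem ya115200 : Nat.beq (rng x1 (nat_lit 115200) (nat_lit 900)) (nat_lit 0) = true := by decide +kernel
theorem ya116100 : Nat.beq (rng x1 (nat_lit 116100) (nat_lit 900)) (nat_lit 0) = true := by decide +kernel
theorem ya117000 : Nat.beq (rng x1 (nat_lit 117000) (nat_lit 900)) (nat_lit 0) = true := by decide +kernel
theorem ya117900 : Nat.beq (rng x1 (nat_lit 117900) (nat_lit 900)) (nat_lit 0) = true := by decide +kernel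
theorem ya118800 : Nat.beq (rng x1 (nat_lit 118800) (nat_lit 900)) (nat_lit 0) = true := by decide +kernel
theorem ya119700 : Nat.beq (rng x1 (nat_lit 119700) (nat_lit 900)) (nat_lit 0) = true := by decide +kernel
theorem ya120600 : Nat.beq (rng x1 (nat_lit 120600) (nat_lit 900)) (nat_lit 0) = true := by decide +kernel
theorem ya121500 : Nat.beq (rng x1 (nat_lit 121500) (nat_lit 900)) (nat_lit 0) = true := by decide +kernel

end Cfsg.Agent.Ct.ON
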