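import Cfsg.Agent.Lib.Cert.ON.D

set_option autoImplicit false
set_option maxRecDepth 100000

namespace Cfsg.Agent.Ct.ON

open Cfsg.Agent.PC

theorem ya122400 : Nat.beq (rng x1 (nat_lit 122400) (nat_lit 360)) (nat_lit 0) = true := by decide +kernel
theorem yb0 : Nat.beq (rng d0 (nat_lit 0) (nat_lit 10000)) (nat_lit 0) = true := by decide +kernel
theorem yb10000 : Nat.beq (rng d0 (nat_lit 10000) (nat_lit 10000)) (nat_lit 0) = true := by decide +kernel
theorem yb20000 : Nat.beq (rng d0 (nat_lit 20000) (nat_lit 10000)) (nat_lit 0) = true := by decide +kernel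
theorem yb30000 : Nat.beq (rng d0 (nat_lit 30000) (nat_lit 10000)) (nat_lit 0) = true := by decide +kernel
theorem yb40000 : Nat.beq (rng d0 (nat_lit 40000) (nat_lit 10000)) (nat_lit 0) = true := by decide +kernel
theorem yb50000 : Nat.beq (rng d0 (nat_lit 50000) (nat_lit 10000)) (nat_lit 0) = true := by decide +kernel
theorem yb60000 : Nat.beq (rng d0 (nat_lit 60000) (nat_lit 10000)) (nat_lit 0) = true := by decide +kernel

end Cfsg.Agent.Ct.ON
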