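import Cfsg.Agent.Lib.Cert.ON.D

set_option autoImplicit false
set_option maxRecDepth 100000

namespace Cfsg.Agent.Ct.ON

open Cfsg.Agent.PC

theorem yd0 : Nat.beq (rng d2 (nat_lit 0) (nat_lit 62000)) (nat_lit 0) = true := by decide +kernel
theorem yd62000 : Nat.beq (rng d2 (nat_lit 62000) (nat_lit 60760)) (nat_lit 0) = true := by decide +kernel
theorem ye0 : Nat.beq (rng s0 (nat_lit 0) (nat_lit 5000)) (nat_lit 0) = true := by decide +kernel
theorem ye5000 : Nat.beq (rng s0 (nat_lit 5000) (nat_lit 5000)) (nat_lit 0) = true := by decide +kernel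
theorem ye10000 : Nat.beq (rng s0 (nat_lit 10000) (nat_lit 5000)) (nat_lit 0) = true := by decide +kernel
theorem ye15000 : Nat.beq (rng s0 (nat_lit 15000) (nat_lit 5000)) (nat_lit 0) = true := by decide +kernel
theorem ye20000 : Nat.beq (rng s0 (nat_lit 20000) (nat_lit 5000)) (nat_lit 0) = true := by decide +kernel
theorem ye25000 : Nat.beq (rng s0 (nat_lit 25000) (nat_lit 5000)) (nat_lit 0) = true := by decide +kernel

end Cfsg.Agent.Ct.ON
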