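import Cfsg.Agent.Lib.Cert.ON.D

set_option autoImplicit false
set_option maxRecDepth 100000

namespace Cfsg.Agent.Ct.ON

open Cfsg.Agent.PC

theorem ya14400 : Nat.beq (rng x1 (nat_lit 14400) (nat_lit 900)) (nat_lit 0) = true := by decide +kernel
theorem ya15300 : Nat.beq (rng x1 (nat_lit 15300) (nat_lit 900)) (nat_lit 0) = true := by decide +kernel
theorem ya16200 : Nat.beq (rng x1 (nat_lit 16200) (nat_lit 900)) (nat_lit 0) = true := by decide +kernel
theorem ya17100 : Nat.beq (rng x1 (nat_lit 17100) (nat_lit 900)) (nat_lit 0) = true := by decide +kernel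
theorem ya18000 : Nat.beq (rng x1 (nat_lit 18000) (nat_lit 900)) (nat_lit 0) = true := by decide +kernel
theorem ya18900 : Nat.beq (rng x1 (nat_lit 18900) (nat_lit 900)) (nat_lit 0) = true := by decide +kernel
theorem ya19800 : Nat.beq (rng x1 (nat_lit 19800) (nat_lit 900)) (nat_lit 0) = true := by decide +kernel
theorem ya20700 : Nat.beq (rng x1 (nat_lit 20700) (nat_lit 900)) (nat_lit 0) = true := by decide +kernel

end Cfsg.Agent.Ct.ON
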