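import Cfsg.Agent.Lib.Cert.ON.D

set_option autoImplicit false
set_option maxRecDepth 100000

namespace Cfsg.Agent.Ct.ON

open Cfsg.Agent.PC

theorem ye30000 : Nat.beq (rng s0 (nat_lit 30000) (nat_lit 5000)) (nat_lit 0) = true := by decide +kernel
theorem ye35000 : Nat.beq (rng s0 (nat_lit 35000) (nat_lit 5000)) (nat_lit 0) = true := by decide +kernel
theorem ye40000 : Nat.beq (rng s0 (nat_lit 40000) (nat_lit 5000)) (nat_lit 0) = true := by decide +kernel
theorem ye45000 : Nat.beq (rng s0 (nat_lit 45000) (nat_lit 5000)) (nat_lit 0) = true := by decide +kernel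
theorem ye50000 : Nat.beq (rng s0 (nat_lit 50000) (nat_lit 5000)) (nat_lit 0) = true := by decide +kernel
theorem ye55000 : Nat.beq (rng s0 (nat_lit 55000) (nat_lit 5000)) (nat_lit 0) = true := by decide +kernel
theorem ye60000 : Nat.beq (rng s0 (nat_lit 60000) (nat_lit 5000)) (nat_lit 0) = true := by decide +kernel
theorem ye65000 : Nat.beq (rng s0 (nat_lit 65000) (nat_lit 5000)) (nat_lit 0) = true := by decide +kernel

end Cfsg.Agent.Ct.ON
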