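import Cfsg.Agent.Lib.Cert.ON.D

set_option autoImplicit false
set_option maxRecDepth 100000

namespace Cfsg.Agent.Ct.ON

open Cfsg.Agent.PC

theorem ye70000 : Nat.beq (rng s0 (nat_lit 70000) (nat_lit 5000)) (nat_lit 0) = true := by decide +kernel
theorem ye75000 : Nat.beq (rng s0 (nat_lit 75000) (nat_lit 5000)) (nat_lit 0) = true := by decide +kernel
theorem ye80000 : Nat.beq (rng s0 (nat_lit 80000) (nat_lit 5000)) (nat_lit 0) = true := by decide +kernel
theorem ye85000 : Nat.beq (rng s0 (nat_lit 85000) (nat_lit 5000)) (nat_lit 0) = true := by decide +kernel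
theorem ye90000 : Nat.beq (rng s0 (nat_lit 90000) (nat_lit 5000)) (nat_lit 0) = true := by decide +kernel
theorem ye95000 : Nat.beq (rng s0 (nat_lit 95000) (nat_lit 5000)) (nat_lit 0) = true := by decide +kernel
theorem ye100000 : Nat.beq (rng s0 (nat_lit 100000) (nat_lit 5000)) (nat_lit 0) = true := by decide +kernel
theorem ye105000 : Nat.beq (rng s0 (nat_lit 105000) (nat_lit 5000)) (nat_lit 0) = true := by decide +kernel

end Cfsg.Agent.Ct.ON
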