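import Cfsg.Agent.Lib.Cert.ON.D

set_option autoImplicit false
set_option maxRecDepth 100000

namespace Cfsg.Agent.Ct.ON

open Cfsg.Agent.PC

theorem ye110000 : Nat.beq (rng s0 (nat_lit 110000) (nat_lit 5000)) (nat_lit 0) = true := by decide +kernel
theorem ye115000 : Nat.beq (rng s0 (nat_lit 115000) (nat_lit 5000)) (nat_lit 0) = true := by decide +kernel
theorem ye120000 : Nat.beq (rng s0 (nat_lit 120000) (nat_lit 2760)) (nat_lit 0) = true := by decide +kernel
theorem n0 : Nat.sub (nat_lit 122760) (cnt (fun c => sg (CV0 c)) (nat_lit 1) 122760) = 0 := by decide +kernel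
theorem n1 : Nat.sub (nat_lit 5586) (cnt (fun c => sg (CV1 c)) (nat_lit 1) 122760) = 0 := by decide +kernel
theorem n2 : Nat.sub (nat_lit 672) (cnt (fun c => sg (CV2 c)) (nat_lit 1) 122760) = 0 := by decide +kernel
theorem z1 : cnt SO 1 122760 = sz 1 := by decide +kernel
theorem z2 : cnt SO 2 122760 = sz 2 := by decide +kernel

end Cfsg.Agent.Ct.ON
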