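import Cfsg.Agent.Lib.Cert.ON.D

set_option autoImplicit false
set_option maxRecDepth 100000

namespace Cfsg.Agent.Ct.ON

open Cfsg.Agent.PC

theorem z3 : cnt SO 3 122760 = sz 3 := by decide +kernel
theorem z4 : cnt SO 4 122760 = sz 4 := by decide +kernel
theorem z5 : cnt SO 5 122760 = sz 5 := by decide +kernel

end Cfsg.Agent.Ct.ON
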