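import Cfsg.Agent.Lib.Cert.ON.D

set_option autoImplicit false
set_option maxRecDepth 100000

namespace Cfsg.Agent.Ct.ON

open Cfsg.Agent.PC

theorem ya21600 : Nat.beq (rng x1 (nat_lit 21600) (nat_lit 900)) (nat_lit 0) = true := by decide +kernel
theorem ya22500 : Nat.beq (rng x1 (nat_lit 22500) (nat_lit 900)) (nat_lit 0) = true := by decide +kernel
theorem ya23400 : Nat.beq (rng x1 (nat_lit 23400) (nat_lit 900)) (nat_lit 0) = true := by decide +kernel
theorem ya24300 : Nat.beq (rng x1 (nat_lit 24300) (nat_lit 900)) (nat_lit 0) = true := by decide +kernel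
theorem ya25200 : Nat.beq (rng x1 (nat_lit 25200) (nat_lit 900)) (nat_lit 0) = true := by decide +kernel
theorem ya26100 : Nat.beq (rng x1 (nat_lit 26100) (nat_lit 900)) (nat_lit 0) = true := by decide +kernel
theorem ya27000 : Nat.beq (rng x1 (nat_lit 27000) (nat_lit 900)) (nat_lit 0) = true := by decide +kernel
theorem ya27900 : Nat.beq (rng x1 (nat_lit 27900) (nat_lit 900)) (nat_lit 0) = true := by decide +kernel

end Cfsg.Agent.Ct.ON
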