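import Cfsg.Agent.Lib.Cert.ON.D

set_option autoImplicit false
set_option maxRecDepth 100000

namespace Cfsg.Agent.Ct.ON

open Cfsg.Agent.PC

theorem ya28800 : Nat.beq (rng x1 (nat_lit 28800) (nat_lit 900)) (nat_lit 0) = true := by decide +kernel
theorem ya29700 : Nat.beq (rng x1 (nat_lit 29700) (nat_lit 900)) (nat_lit 0) = true := by decide +kernel
theorem ya30600 : Nat.beq (rng x1 (nat_lit 30600) (nat_lit 900)) (nat_lit 0) = true := by decide +kernel
theorem ya31500 : Nat.beq (rng x1 (nat_lit 31500) (nat_lit 900)) (nat_lit 0) = true := by decide +kernel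
theorem ya32400 : Nat.beq (rng x1 (nat_lit 32400) (nat_lit 900)) (nat_lit 0) = true := by decide +kernel
theorem ya33300 : Nat.beq (rng x1 (nat_lit 33300) (nat_lit 900)) (nat_lit 0) = true := by decide +kernel
theorem ya34200 : Nat.beq (rng x1 (nat_lit 34200) (nat_lit 900)) (nat_lit 0) = true := by decide +kernel
theorem ya35100 : Nat.beq (rng x1 (nat_lit 35100) (nat_lit 900)) (nat_lit 0) = true := by decide +kernel

end Cfsg.Agent.Ct.ON
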