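import Cfsg.Agent.Lib.Cert.ON.D

set_option autoImplicit false
set_option maxRecDepth 100000

namespace Cfsg.Agent.Ct.ON

open Cfsg.Agent.PC

theorem ya36000 : Nat.beq (rng x1 (nat_lit 36000) (nat_lit 900)) (nat_lit 0) = true := by decide +kernel
theorem ya36900 : Nat.beq (rng x1 (nat_lit 36900) (nat_lit 900)) (nat_lit 0) = true := by decide +kernel
theorem ya37800 : Nat.beq (rng x1 (nat_lit 37800) (nat_lit 900)) (nat_lit 0) = true := by decide +kernel
theorem ya38700 : Nat.beq (rng x1 (nat_lit 38700) (nat_lit 900)) (nat_lit 0) = true := by decide +kernel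
theorem ya39600 : Nat.beq (rng x1 (nat_lit 39600) (nat_lit 900)) (nat_lit 0) = true := by decide +kernel
theorem ya40500 : Nat.beq (rng x1 (nat_lit 40500) (nat_lit 900)) (nat_lit 0) = true := by decide +kernel
theorem ya41400 : Nat.beq (rng x1 (nat_lit 41400) (nat_lit 900)) (nat_lit 0) = true := by decide +kernel
theorem ya42300 : Nat.beq (rng x1 (nat_lit 42300) (nat_lit 900)) (nat_lit 0) = true := by decide +kernel

end Cfsg.Agent.Ct.ON
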