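import Cfsg.Agent.Lib.Cert.ON.D

set_option autoImplicit false
set_option maxRecDepth 100000

namespace Cfsg.Agent.Ct.ON

open Cfsg.Agent.PC

theorem ya43200 : Nat.beq (rng x1 (nat_lit 43200) (nat_lit 900)) (nat_lit 0) = true := by decide +kernel
theorem ya44100 : Nat.beq (rng x1 (nat_lit 44100) (nat_lit 900)) (nat_lit 0) = true := by decide +kernel
theorem ya45000 : Nat.beq (rng x1 (nat_lit 45000) (nat_lit 900)) (nat_lit 0) = true := by decide +kernel
theorem ya45900 : Nat.beq (rng x1 (nat_lit 45900) (nat_lit 900)) (nat_lit 0) = true := by decide +kernel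
theorem ya46800 : Nat.beq (rng x1 (nat_lit 46800) (nat_lit 900)) (nat_lit 0) = true := by decide +kernel
theorem ya47700 : Nat.beq (rng x1 (nat_lit 47700) (nat_lit 900)) (nat_lit 0) = true := by decide +kernel
theorem ya48600 : Nat.beq (rng x1 (nat_lit 48600) (nat_lit 900)) (nat_lit 0) = true := by decide +kernel
theorem ya49500 : Nat.beq (rng x1 (nat_lit 49500) (nat_lit 900)) (nat_lit 0) = true := by decide +kernel

end Cfsg.Agent.Ct.ON
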