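import Cfsg.Agent.Lib.Cert.ON.D

set_option autoImplicit false
set_option maxRecDepth 100000

namespace Cfsg.Agent.Ct.ON

open Cfsg.Agent.PC

theorem ya50400 : Nat.beq (rng x1 (nat_lit 50400) (nat_lit 900)) (nat_lit 0) = true := by decide +kernel
theorem ya51300 : Nat.beq (rng x1 (nat_lit 51300) (nat_lit 900)) (nat_lit 0) = true := by decide +kernel
theorem ya52200 : Nat.beq (rng x1 (nat_lit 52200) (nat_lit 900)) (nat_lit 0) = true := by decide +kernel
theorem ya53100 : Nat.beq (rng x1 (nat_lit 53100) (nat_lit 900)) (nat_lit 0) = true := by decide +kernel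
theorem ya54000 : Nat.beq (rng x1 (nat_lit 54000) (nat_lit 900)) (nat_lit 0) = true := by decide +kernel
theorem ya54900 : Nat.beq (rng x1 (nat_lit 54900) (nat_lit 900)) (nat_lit 0) = true := by decide +kernel
theorem ya55800 : Nat.beq (rng x1 (nat_lit 55800) (nat_lit 900)) (nat_lit 0) = true := by decide +kernel
theorem ya56700 : Nat.beq (rng x1 (nat_lit 56700) (nat_lit 900)) (nat_lit 0) = true := by decide +kernel

end Cfsg.Agent.Ct.ON
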