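import Cfsg.Agent.Lib.Cert.ON.D

set_option autoImplicit false
set_option maxRecDepth 100000

namespace Cfsg.Agent.Ct.ON

open Cfsg.Agent.PC

theorem ya57600 : Nat.beq (rng x1 (nat_lit 57600) (nat_lit 900)) (nat_lit 0) = true := by decide +kernel
theorem ya58500 : Nat.beq (rng x1 (nat_lit 58500) (nat_lit 900)) (nat_lit 0) = true := by decide +kernel
theorem ya59400 : Nat.beq (rng x1 (nat_lit 59400) (nat_lit 900)) (nat_lit 0) = true := by decide +kernel
theorem ya60300 : Nat.beq (rng x1 (nat_lit 60300) (nat_lit 900)) (nat_lit 0) = true := by decide +kernel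
theorem ya61200 : Nat.beq (rng x1 (nat_lit 61200) (nat_lit 900)) (nat_lit 0) = true := by decide +kernel
theorem ya62100 : Nat.beq (rng x1 (nat_lit 62100) (nat_lit 900)) (nat_lit 0) = true := by decide +kernel
theorem ya63000 : Nat.beq (rng x1 (nat_lit 63000) (nat_lit 900)) (nat_lit 0) = true := by decide +kernel
theorem ya63900 : Nat.beq (rng x1 (nat_lit 63900) (nat_lit 900)) (nat_lit 0) = true := by decide +kernel

end Cfsg.Agent.Ct.ON
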