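import Cfsg.Agent.Lib.Cert.ON.D

set_option autoImplicit false
set_option maxRecDepth 100000

namespace Cfsg.Agent.Ct.ON

open Cfsg.Agent.PC

theorem ya64800 : Nat.beq (rng x1 (nat_lit 64800) (nat_lit 900)) (nat_lit 0) = true := by decide +kernel
theorem ya65700 : Nat.beq (rng x1 (nat_lit 65700) (nat_lit 900)) (nat_lit 0) = true := by decide +kernel
theorem ya66600 : Nat.beq (rng x1 (nat_lit 66600) (nat_lit 900)) (nat_lit 0) = true := by decide +kernel
theorem ya67500 : Nat.beq (rng x1 (nat_lit 67500) (nat_lit 900)) (nat_lit 0) = true := by decide +kernel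
theorem ya68400 : Nat.beq (rng x1 (nat_lit 68400) (nat_lit 900)) (nat_lit 0) = true := by decide +kernel
theorem ya69300 : Nat.beq (rng x1 (nat_lit 69300) (nat_lit 900)) (nat_lit 0) = true := by decide +kernel
theorem ya70200 : Nat.beq (rng x1 (nat_lit 70200) (nat_lit 900)) (nat_lit 0) = true := by decide +kernel
theorem ya71100 : Nat.beq (rng x1 (nat_lit 71100) (nat_lit 900)) (nat_lit 0) = true := by decide +kernel

end Cfsg.Agent.Ct.ON
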