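import Cfsg.Prelude.Def_Spor_ON
import Cfsg.Agent.Lib.Cert.ON.Y0
import Cfsg.Agent.Lib.Cert.ON.Y1
import Cfsg.Agent.Lib.Cert.ON.Y2
import Cfsg.Agent.Lib.Cert.ON.Y3
import Cfsg.Agent.Lib.Cert.ON.Y4
import Cfsg.Agent.Lib.Cert.ON.Y5
import Cfsg.Agent.Lib.Cert.ON.Y6
import Cfsg.Agent.Lib.Cert.ON.Y7
import Cfsg.Agent.Lib.Cert.ON.Y8
import Cfsg.Agent.Lib.Cert.ON.Y9
import Cfsg.Agent.Lib.Cert.ON.Y10
import Cfsg.Agent.Lib.Cert.ON.Y11
import Cfsg.Agent.Lib.Cert.ON.Y12
import Cfsg.Agent.Lib.Cert.ON.Y13
import Cfsg.Agent.Lib.Cert.ON.Y14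
import Cfsg.Agent.Lib.Cert.ON.Y15
import Cfsg.Agent.Lib.Cert.ON.Y16
import Cfsg.Agent.Lib.Cert.ON.Y17
import Cfsg.Agent.Lib.Cert.ON.Y18
import Cfsg.Agent.Lib.Cert.ON.Y19
import Cfsg.Agent.Lib.Cert.ON.Y20
import Cfsg.Agent.Lib.Cert.ON.Y21
import Cfsg.Agent.Lib.Cert.ON.Y22
import Cfsg.Agent.Lib.Cert.ON.Y23

set_option autoImplicit false
set_option maxRecDepth 100000

namespace Cfsg.Agent.Ct.ON

open Cfsg.Agent.PC

open Cfsg.Agent.Fi Cfsg.Agent.Ct
theorem hy : ∀ i < 122760, x1 i = 0 := by
  have h := zero_lt_zero x1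
  have h := zero_lt_add (a := (nat_lit 0)) (n := (nat_lit 900)) (b := (nat_lit 900)) h ya0 rfl
  have h := zero_lt_add (a := (nat_lit 900)) (n := (nat_lit 900)) (b := (nat_lit 1800)) h ya900 rfl
  have h := zero_lt_add (a := (nat_lit 1800)) (n := (nat_lit 900)) (b := (nat_lit 2700)) h ya1800 rfl
  have h := zero_lt_add (a := (nat_lit 2700)) (n := (nat_lit 900)) (b := (nat_lit 3600)) h ya2700 rfl
  have h := zero_lt_add (a := (nat_lit 3600)) (n := (nat_lit 900)) (b := (nat_lit 4500)) h ya3600 rfl
  have h := zero_lt_add (a := (nat_lit 4500)) (n := (nat_lit 900)) (b := (nat_lit 5400)) h ya4500 rfl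
  have h := zero_lt_add (a := (nat_lit 5400)) (n := (nat_lit 900)) (b := (nat_lit 6300)) h ya5400 rfl
  have h := zero_lt_add (a := (nat_lit 6300)) (n := (nat_lit 900)) (b := (nat_lit 7200)) h ya6300 rfl
  have h := zero_lt_add (a := (nat_lit 7200)) (n := (nat_lit 900)) (b := (nat_lit 8100)) h ya7200 rfl
  have h := zero_lt_add (a := (nat_lit 8100)) (n := (nat_lit 900)) (b := (nat_lit 9000)) h ya8100 rfl
  have h := zero_lt_add (a := (nat_lit 9000)) (n := (nat_lit 900)) (b := (nat_lit 9900)) h ya9000 rfl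
  have h := zero_lt_add (a := (nat_lit 9900)) (n := (nat_lit 900)) (b := (nat_lit 10800)) h ya9900 rfl
  have h := zero_lt_add (a := (nat_lit 10800)) (n := (nat_lit 900)) (b := (nat_lit 11700)) h ya10800 rfl
  have h := zero_lt_add (a := (nat_lit 11700)) (n := (nat_lit 900)) (b := (nat_lit 12600)) h ya11700 rfl
  have h := zero_lt_add (a := (nat_lit 12600)) (n := (nat_lit 900)) (b := (nat_lit 13500)) h ya12600 rfl
  have h := zero_lt_add (a := (nat_lit 13500)) (n := (nat_lit 900)) (b := (nat_lit 14400)) h ya13500 rfl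
  have h := zero_lt_add (a := (nat_lit 14400)) (n := (nat_lit 900)) (b := (nat_lit 15300)) h ya14400 rfl
  have h := zero_lt_add (a := (nat_lit 15300)) (n := (nat_lit 900)) (b := (nat_lit 16200)) h ya15300 rfl
  have h := zero_lt_add (a := (nat_lit 16200)) (n := (nat_lit 900)) (b := (nat_lit 17100)) h ya16200 rfl
  have h := zero_lt_add (a := (nat_lit 17100)) (n := (nat_lit 900)) (b := (nat_lit 18000)) h ya17100 rfl
  have h := zero_lt_add (a := (nat_lit 18000)) (n := (nat_lit 900)) (b := (nat_lit 18900)) h ya18000 rfl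
  have h := zero_lt_add (a := (nat_lit 18900)) (n := (nat_lit 900)) (b := (nat_lit 19800)) h ya18900 rfl
  have h := zero_lt_add (a := (nat_lit 19800)) (n := (nat_lit 900)) (b := (nat_lit 20700)) h ya19800 rfl
  have h := zero_lt_add (a := (nat_lit 20700)) (n := (nat_lit 900)) (b := (nat_lit 21600)) h ya20700 rfl
  have h := zero_lt_add (a := (nat_lit 21600)) (n := (nat_lit 900)) (b := (nat_lit 22500)) h ya21600 rfl
  have h := zero_lt_add (a := (nat_lit 22500)) (n := (nat_lit 900)) (b := (nat_lit 23400)) h ya22500 rfl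
  have h := zero_lt_add (a := (nat_lit 23400)) (n := (nat_lit 900)) (b := (nat_lit 24300)) h ya23400 rfl
  have h := zero_lt_add (a := (nat_lit 24300)) (n := (nat_lit 900)) (b := (nat_lit 25200)) h ya24300 rfl
  have h := zero_lt_add (a := (nat_lit 25200)) (n := (nat_lit 900)) (b := (nat_lit 26100)) h ya25200 rfl
  have h := zero_lt_add (a := (nat_lit 26100)) (n := (nat_lit 900)) (b := (nat_lit 27000)) h ya26100 rfl
  have h := zero_lt_add (a := (nat_lit 27000)) (n := (nat_lit 900)) (b := (nat_lit 27900)) h ya27000 rfl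
  have h := zero_lt_add (a := (nat_lit 27900)) (n := (nat_lit 900)) (b := (nat_lit 28800)) h ya27900 rfl
  have h := zero_lt_add (a := (nat_lit 28800)) (n := (nat_lit 900)) (b := (nat_lit 29700)) h ya28800 rfl
  have h := zero_lt_add (a := (nat_lit 29700)) (n := (nat_lit 900)) (b := (nat_lit 30600)) h ya29700 rfl
  have h := zero_lt_add (a := (nat_lit 30600)) (n := (nat_lit 900)) (b := (nat_lit 31500)) h ya30600 rfl
  have h := zero_lt_add (a := (nat_lit 31500)) (n := (nat_lit 900)) (b := (nat_lit 32400)) h ya31500 rfl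
  have h := zero_lt_add (a := (nat_lit 32400)) (n := (nat_lit 900)) (b := (nat_lit 33300)) h ya32400 rfl
  have h := zero_lt_add (a := (nat_lit 33300)) (n := (nat_lit 900)) (b := (nat_lit 34200)) h ya33300 rfl
  have h := zero_lt_add (a := (nat_lit 34200)) (n := (nat_lit 900)) (b := (nat_lit 35100)) h ya34200 rfl
  have h := zero_lt_add (a := (nat_lit 35100)) (n := (nat_lit 900)) (b := (nat_lit 36000)) h ya35100 rfl
  have h := zero_lt_add (a := (nat_lit 36000)) (n := (nat_lit 900)) (b := (nat_lit 36900)) h ya36000 rfl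
  have h := zero_lt_add (a := (nat_lit 36900)) (n := (nat_lit 900)) (b := (nat_lit 37800)) h ya36900 rfl
  have h := zero_lt_add (a := (nat_lit 37800)) (n := (nat_lit 900)) (b := (nat_lit 38700)) h ya37800 rfl
  have h := zero_lt_add (a := (nat_lit 38700)) (n := (nat_lit 900)) (b := (nat_lit 39600)) h ya38700 rfl
  have h := zero_lt_add (a := (nat_lit 39600)) (n := (nat_lit 900)) (b := (nat_lit 40500)) h ya39600 rfl
  have h := zero_lt_add (a := (nat_lit 40500)) (n := (nat_lit 900)) (b := (nat_lit 41400)) h ya40500 rfl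
  have h := zero_lt_add (a := (nat_lit 41400)) (n := (nat_lit 900)) (b := (nat_lit 42300)) h ya41400 rfl
  have h := zero_lt_add (a := (nat_lit 42300)) (n := (nat_lit 900)) (b := (nat_lit 43200)) h ya42300 rfl
  have h := zero_lt_add (a := (nat_lit 43200)) (n := (nat_lit 900)) (b := (nat_lit 44100)) h ya43200 rfl
  have h := zero_lt_add (a := (nat_lit 44100)) (n := (nat_lit 900)) (b := (nat_lit 45000)) h ya44100 rfl
  have h := zero_lt_add (a := (nat_lit 45000)) (n := (nat_lit 900)) (b := (nat_lit 45900)) h ya45000 rfl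
  have h := zero_lt_add (a := (nat_lit 45900)) (n := (nat_lit 900)) (b := (nat_lit 46800)) h ya45900 rfl
  have h := zero_lt_add (a := (nat_lit 46800)) (n := (nat_lit 900)) (b := (nat_lit 47700)) h ya46800 rfl
  have h := zero_lt_add (a := (nat_lit 47700)) (n := (nat_lit 900)) (b := (nat_lit 48600)) h ya47700 rfl
  have h := zero_lt_add (a := (nat_lit 48600)) (n := (nat_lit 900)) (b := (nat_lit 49500)) h ya48600 rfl
  have h := zero_lt_add (a := (nat_lit 49500)) (n := (nat_lit 900)) (b := (nat_lit 50400)) h ya49500 rfl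
  have h := zero_lt_add (a := (nat_lit 50400)) (n := (nat_lit 900)) (b := (nat_lit 51300)) h ya50400 rfl
  have h := zero_lt_add (a := (nat_lit 51300)) (n := (nat_lit 900)) (b := (nat_lit 52200)) h ya51300 rfl
  have h := zero_lt_add (a := (nat_lit 52200)) (n := (nat_lit 900)) (b := (nat_lit 53100)) h ya52200 rfl
  have h := zero_lt_add (a := (nat_lit 53100)) (n := (nat_lit 900)) (b := (nat_lit 54000)) h ya53100 rfl
  have h := zero_lt_add (a := (nat_lit 54000)) (n := (nat_lit 900)) (b := (nat_lit 54900)) h ya54000 rfl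
  have h := zero_lt_add (a := (nat_lit 54900)) (n := (nat_lit 900)) (b := (nat_lit 55800)) h ya54900 rfl
  have h := zero_lt_add (a := (nat_lit 55800)) (n := (nat_lit 900)) (b := (nat_lit 56700)) h ya55800 rfl
  have h := zero_lt_add (a := (nat_lit 56700)) (n := (nat_lit 900)) (b := (nat_lit 57600)) h ya56700 rfl
  have h := zero_lt_add (a := (nat_lit 57600)) (n := (nat_lit 900)) (b := (nat_lit 58500)) h ya57600 rfl
  have h := zero_lt_add (a := (nat_lit 58500)) (n := (nat_lit 900)) (b := (nat_lit 59400)) h ya58500 rfl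
  have h := zero_lt_add (a := (nat_lit 59400)) (n := (nat_lit 900)) (b := (nat_lit 60300)) h ya59400 rfl
  have h := zero_lt_add (a := (nat_lit 60300)) (n := (nat_lit 900)) (b := (nat_lit 61200)) h ya60300 rfl
  have h := zero_lt_add (a := (nat_lit 61200)) (n := (nat_lit 900)) (b := (nat_lit 62100)) h ya61200 rfl
  have h := zero_lt_add (a := (nat_lit 62100)) (n := (nat_lit 900)) (b := (nat_lit 63000)) h ya62100 rfl
  have h := zero_lt_add (a := (nat_lit 63000)) (n := (nat_lit 900)) (b := (nat_lit 63900)) h ya63000 rfl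
  have h := zero_lt_add (a := (nat_lit 63900)) (n := (nat_lit 900)) (b := (nat_lit 64800)) h ya63900 rfl
  have h := zero_lt_add (a := (nat_lit 64800)) (n := (nat_lit 900)) (b := (nat_lit 65700)) h ya64800 rfl
  have h := zero_lt_add (a := (nat_lit 65700)) (n := (nat_lit 900)) (b := (nat_lit 66600)) h ya65700 rfl
  have h := zero_lt_add (a := (nat_lit 66600)) (n := (nat_lit 900)) (b := (nat_lit 67500)) h ya66600 rfl
  have h := zero_lt_add (a := (nat_lit 67500)) (n := (nat_lit 900)) (b := (nat_lit 68400)) h ya67500 rfl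
  have h := zero_lt_add (a := (nat_lit 68400)) (n := (nat_lit 900)) (b := (nat_lit 69300)) h ya68400 rfl
  have h := zero_lt_add (a := (nat_lit 69300)) (n := (nat_lit 900)) (b := (nat_lit 70200)) h ya69300 rfl
  have h := zero_lt_add (a := (nat_lit 70200)) (n := (nat_lit 900)) (b := (nat_lit 71100)) h ya70200 rfl
  have h := zero_lt_add (a := (nat_lit 71100)) (n := (nat_lit 900)) (b := (nat_lit 72000)) h ya71100 rfl
  have h := zero_lt_add (a := (nat_lit 72000)) (n := (nat_lit 900)) (b := (nat_lit 72900)) h ya72000 rfl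
  have h := zero_lt_add (a := (nat_lit 72900)) (n := (nat_lit 900)) (b := (nat_lit 73800)) h ya72900 rfl
  have h := zero_lt_add (a := (nat_lit 73800)) (n := (nat_lit 900)) (b := (nat_lit 74700)) h ya73800 rfl
  have h := zero_lt_add (a := (nat_lit 74700)) (n := (nat_lit 900)) (b := (nat_lit 75600)) h ya74700 rfl
  have h := zero_lt_add (a := (nat_lit 75600)) (n := (nat_lit 900)) (b := (nat_lit 76500)) h ya75600 rfl
  have h := zero_lt_add (a := (nat_lit 76500)) (n := (nat_lit 900)) (b := (nat_lit 77400)) h ya76500 rfl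
  have h := zero_lt_add (a := (nat_lit 77400)) (n := (nat_lit 900)) (b := (nat_lit 78300)) h ya77400 rfl
  have h := zero_lt_add (a := (nat_lit 78300)) (n := (nat_lit 900)) (b := (nat_lit 79200)) h ya78300 rfl
  have h := zero_lt_add (a := (nat_lit 79200)) (n := (nat_lit 900)) (b := (nat_lit 80100)) h ya79200 rfl
  have h := zero_lt_add (a := (nat_lit 80100)) (n := (nat_lit 900)) (b := (nat_lit 81000)) h ya80100 rfl
  have h := zero_lt_add (a := (nat_lit 81000)) (n := (nat_lit 900)) (b := (nat_lit 81900)) h ya81000 rfl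
  have h := zero_lt_add (a := (nat_lit 81900)) (n := (nat_lit 900)) (b := (nat_lit 82800)) h ya81900 rfl
  have h := zero_lt_add (a := (nat_lit 82800)) (n := (nat_lit 900)) (b := (nat_lit 83700)) h ya82800 rfl
  have h := zero_lt_add (a := (nat_lit 83700)) (n := (nat_lit 900)) (b := (nat_lit 84600)) h ya83700 rfl
  have h := zero_lt_add (a := (nat_lit 84600)) (n := (nat_lit 900)) (b := (nat_lit 85500)) h ya84600 rfl
  have h := zero_lt_add (a := (nat_lit 85500)) (n := (nat_lit 900)) (b := (nat_lit 86400)) h ya85500 rfl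
  have h := zero_lt_add (a := (nat_lit 86400)) (n := (nat_lit 900)) (b := (nat_lit 87300)) h ya86400 rfl
  have h := zero_lt_add (a := (nat_lit 87300)) (n := (nat_lit 900)) (b := (nat_lit 88200)) h ya87300 rfl
  have h := zero_lt_add (a := (nat_lit 88200)) (n := (nat_lit 900)) (b := (nat_lit 89100)) h ya88200 rfl
  have h := zero_lt_add (a := (nat_lit 89100)) (n := (nat_lit 900)) (b := (nat_lit 90000)) h ya89100 rfl
  have h := zero_lt_add (a := (nat_lit 90000)) (n := (nat_lit 900)) (b := (nat_lit 90900)) h ya90000 rfl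
  have h := zero_lt_add (a := (nat_lit 90900)) (n := (nat_lit 900)) (b := (nat_lit 91800)) h ya90900 rfl
  have h := zero_lt_add (a := (nat_lit 91800)) (n := (nat_lit 900)) (b := (nat_lit 92700)) h ya91800 rfl
  have h := zero_lt_add (a := (nat_lit 92700)) (n := (nat_lit 900)) (b := (nat_lit 93600)) h ya92700 rfl
  have h := zero_lt_add (a := (nat_lit 93600)) (n := (nat_lit 900)) (b := (nat_lit 94500)) h ya93600 rfl
  have h := zero_lt_add (a := (nat_lit 94500)) (n := (nat_lit 900)) (b := (nat_lit 95400)) h ya94500 rfl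
  have h := zero_lt_add (a := (nat_lit 95400)) (n := (nat_lit 900)) (b := (nat_lit 96300)) h ya95400 rfl
  have h := zero_lt_add (a := (nat_lit 96300)) (n := (nat_lit 900)) (b := (nat_lit 97200)) h ya96300 rfl
  have h := zero_lt_add (a := (nat_lit 97200)) (n := (nat_lit 900)) (b := (nat_lit 98100)) h ya97200 rfl
  have h := zero_lt_add (a := (nat_lit 98100)) (n := (nat_lit 900)) (b := (nat_lit 99000)) h ya98100 rfl
  have h := zero_lt_add (a := (nat_lit 99000)) (n := (nat_lit 900)) (b := (nat_lit 99900)) h ya99000 rfl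
  have h := zero_lt_add (a := (nat_lit 99900)) (n := (nat_lit 900)) (b := (nat_lit 100800)) h ya99900 rfl
  have h := zero_lt_add (a := (nat_lit 100800)) (n := (nat_lit 900)) (b := (nat_lit 101700)) h ya100800 rfl
  have h := zero_lt_add (a := (nat_lit 101700)) (n := (nat_lit 900)) (b := (nat_lit 102600)) h ya101700 rfl
  have h := zero_lt_add (a := (nat_lit 102600)) (n := (nat_lit 900)) (b := (nat_lit 103500)) h ya102600 rfl
  have h := zero_lt_add (a := (nat_lit 103500)) (n := (nat_lit 900)) (b := (nat_lit 104400)) h ya103500 rfl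
  have h := zero_lt_add (a := (nat_lit 104400)) (n := (nat_lit 900)) (b := (nat_lit 105300)) h ya104400 rfl
  have h := zero_lt_add (a := (nat_lit 105300)) (n := (nat_lit 900)) (b := (nat_lit 106200)) h ya105300 rfl
  have h := zero_lt_add (a := (nat_lit 106200)) (n := (nat_lit 900)) (b := (nat_lit 107100)) h ya106200 rfl
  have h := zero_lt_add (a := (nat_lit 107100)) (n := (nat_lit 900)) (b := (nat_lit 108000)) h ya107100 rfl
  have h := zero_lt_add (a := (nat_lit 108000)) (n := (nat_lit 900)) (b := (nat_lit 108900)) h ya108000 rfl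
  have h := zero_lt_add (a := (nat_lit 108900)) (n := (nat_lit 900)) (b := (nat_lit 109800)) h ya108900 rfl
  have h := zero_lt_add (a := (nat_lit 109800)) (n := (nat_lit 900)) (b := (nat_lit 110700)) h ya109800 rfl
  have h := zero_lt_add (a := (nat_lit 110700)) (n := (nat_lit 900)) (b := (nat_lit 111600)) h ya110700 rfl
  have h := zero_lt_add (a := (nat_lit 111600)) (n := (nat_lit 900)) (b := (nat_lit 112500)) h ya111600 rfl
  have h := zero_lt_add (a := (nat_lit 112500)) (n := (nat_lit 900)) (b := (nat_lit 113400)) h ya112500 rfl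
  have h := zero_lt_add (a := (nat_lit 113400)) (n := (nat_lit 900)) (b := (nat_lit 114300)) h ya113400 rfl
  have h := zero_lt_add (a := (nat_lit 114300)) (n := (nat_lit 900)) (b := (nat_lit 115200)) h ya114300 rfl
  have h := zero_lt_add (a := (nat_lit 115200)) (n := (nat_lit 900)) (b := (nat_lit 116100)) h ya115200 rfl
  have h := zero_lt_add (a := (nat_lit 116100)) (n := (nat_lit 900)) (b := (nat_lit 117000)) h ya116100 rfl
  have h := zero_lt_add (a := (nat_lit 117000)) (n := (nat_lit 900)) (b := (nat_lit 117900)) h ya117000 rfl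
  have h := zero_lt_add (a := (nat_lit 117900)) (n := (nat_lit 900)) (b := (nat_lit 118800)) h ya117900 rfl
  have h := zero_lt_add (a := (nat_lit 118800)) (n := (nat_lit 900)) (b := (nat_lit 119700)) h ya118800 rfl
  have h := zero_lt_add (a := (nat_lit 119700)) (n := (nat_lit 900)) (b := (nat_lit 120600)) h ya119700 rfl
  have h := zero_lt_add (a := (nat_lit 120600)) (n := (nat_lit 900)) (b := (nat_lit 121500)) h ya120600 rfl
  have h := zero_lt_add (a := (nat_lit 121500)) (n := (nat_lit 900)) (b := (nat_lit 122400)) h ya121500 rfl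
  have h := zero_lt_add (a := (nat_lit 122400)) (n := (nat_lit 360)) (b := (nat_lit 122760)) h ya122400 rfl
  exact h
theorem h0 : ∀ i < 122760, d0 i = 0 := by
  have h := zero_lt_zero d0
  have h := zero_lt_add (a := (nat_lit 0)) (n := (nat_lit 10000)) (b := (nat_lit 10000)) h yb0 rfl
  have h := zero_lt_add (a := (nat_lit 10000)) (n := (nat_lit 10000)) (b := (nat_lit 20000)) h yb10000 rfl
  have h := zero_lt_add (a := (nat_lit 20000)) (n := (nat_lit 10000)) (b := (nat_lit 30000)) h yb20000 rfl
  have h := zero_lt_add (a := (nat_lit 30000)) (n := (nat_lit 10000)) (b := (nat_lit 40000)) h yb30000 rfl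
  have h := zero_lt_add (a := (nat_lit 40000)) (n := (nat_lit 10000)) (b := (nat_lit 50000)) h yb40000 rfl
  have h := zero_lt_add (a := (nat_lit 50000)) (n := (nat_lit 10000)) (b := (nat_lit 60000)) h yb50000 rfl
  have h := zero_lt_add (a := (nat_lit 60000)) (n := (nat_lit 10000)) (b := (nat_lit 70000)) h yb60000 rfl
  have h := zero_lt_add (a := (nat_lit 70000)) (n := (nat_lit 10000)) (b := (nat_lit 80000)) h yb70000 rfl
  have h := zero_lt_add (a := (nat_lit 80000)) (n := (nat_lit 10000)) (b := (nat_lit 90000)) h yb80000 rfl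
  have h := zero_lt_add (a := (nat_lit 90000)) (n := (nat_lit 10000)) (b := (nat_lit 100000)) h yb90000 rfl
  have h := zero_lt_add (a := (nat_lit 100000)) (n := (nat_lit 10000)) (b := (nat_lit 110000)) h yb100000 rfl
  have h := zero_lt_add (a := (nat_lit 110000)) (n := (nat_lit 10000)) (b := (nat_lit 120000)) h yb110000 rfl
  have h := zero_lt_add (a := (nat_lit 120000)) (n := (nat_lit 2760)) (b := (nat_lit 122760)) h yb120000 rfl
  exact h
theorem h1 : ∀ i < 122760, d1 i = 0 := by
  have h := zero_lt_zero d1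
  have h := zero_lt_add (a := (nat_lit 0)) (n := (nat_lit 62000)) (b := (nat_lit 62000)) h yc0 rfl
  have h := zero_lt_add (a := (nat_lit 62000)) (n := (nat_lit 60760)) (b := (nat_lit 122760)) h yc62000 rfl
  exact h
theorem h2 : ∀ i < 122760, d2 i = 0 := by
  have h := zero_lt_zero d2
  have h := zero_lt_add (a := (nat_lit 0)) (n := (nat_lit 62000)) (b := (nat_lit 62000)) h yd0 rfl
  have h := zero_lt_add (a := (nat_lit 62000)) (n := (nat_lit 60760)) (b := (nat_lit 122760)) h yd62000 rfl
  exact h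
theorem hs : ∀ i < 122760, s0 i = 0 := by
  have h := zero_lt_zero s0
  have h := zero_lt_add (a := (nat_lit 0)) (n := (nat_lit 5000)) (b := (nat_lit 5000)) h ye0 rfl
  have h := zero_lt_add (a := (nat_lit 5000)) (n := (nat_lit 5000)) (b := (nat_lit 10000)) h ye5000 rfl
  have h := zero_lt_add (a := (nat_lit 10000)) (n := (nat_lit 5000)) (b := (nat_lit 15000)) h ye10000 rfl
  have h := zero_lt_add (a := (nat_lit 15000)) (n := (nat_lit 5000)) (b := (nat_lit 20000)) h ye15000 rfl
  have h := zero_lt_add (a := (nat_lit 20000)) (n := (nat_lit 5000)) (b := (nat_lit 25000)) h ye20000 rfl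
  have h := zero_lt_add (a := (nat_lit 25000)) (n := (nat_lit 5000)) (b := (nat_lit 30000)) h ye25000 rfl
  have h := zero_lt_add (a := (nat_lit 30000)) (n := (nat_lit 5000)) (b := (nat_lit 35000)) h ye30000 rfl
  have h := zero_lt_add (a := (nat_lit 35000)) (n := (nat_lit 5000)) (b := (nat_lit 40000)) h ye35000 rfl
  have h := zero_lt_add (a := (nat_lit 40000)) (n := (nat_lit 5000)) (b := (nat_lit 45000)) h ye40000 rfl
  have h := zero_lt_add (a := (nat_lit 45000)) (n := (nat_lit 5000)) (b := (nat_lit 50000)) h ye45000 rfl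
  have h := zero_lt_add (a := (nat_lit 50000)) (n := (nat_lit 5000)) (b := (nat_lit 55000)) h ye50000 rfl
  have h := zero_lt_add (a := (nat_lit 55000)) (n := (nat_lit 5000)) (b := (nat_lit 60000)) h ye55000 rfl
  have h := zero_lt_add (a := (nat_lit 60000)) (n := (nat_lit 5000)) (b := (nat_lit 65000)) h ye60000 rfl
  have h := zero_lt_add (a := (nat_lit 65000)) (n := (nat_lit 5000)) (b := (nat_lit 70000)) h ye65000 rfl
  have h := zero_lt_add (a := (nat_lit 70000)) (n := (nat_lit 5000)) (b := (nat_lit 75000)) h ye70000 rfl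
  have h := zero_lt_add (a := (nat_lit 75000)) (n := (nat_lit 5000)) (b := (nat_lit 80000)) h ye75000 rfl
  have h := zero_lt_add (a := (nat_lit 80000)) (n := (nat_lit 5000)) (b := (nat_lit 85000)) h ye80000 rfl
  have h := zero_lt_add (a := (nat_lit 85000)) (n := (nat_lit 5000)) (b := (nat_lit 90000)) h ye85000 rfl
  have h := zero_lt_add (a := (nat_lit 90000)) (n := (nat_lit 5000)) (b := (nat_lit 95000)) h ye90000 rfl
  have h := zero_lt_add (a := (nat_lit 95000)) (n := (nat_lit 5000)) (b := (nat_lit 100000)) h ye95000 rfl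
  have h := zero_lt_add (a := (nat_lit 100000)) (n := (nat_lit 5000)) (b := (nat_lit 105000)) h ye100000 rfl
  have h := zero_lt_add (a := (nat_lit 105000)) (n := (nat_lit 5000)) (b := (nat_lit 110000)) h ye105000 rfl
  have h := zero_lt_add (a := (nat_lit 110000)) (n := (nat_lit 5000)) (b := (nat_lit 115000)) h ye110000 rfl
  have h := zero_lt_add (a := (nat_lit 115000)) (n := (nat_lit 5000)) (b := (nat_lit 120000)) h ye115000 rfl
  have h := zero_lt_add (a := (nat_lit 120000)) (n := (nat_lit 2760)) (b := (nat_lit 122760)) h ye120000 rfl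
  exact h

end Cfsg.Agent.Ct.ON
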