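import Cfsg.Agent.Lib.Cert.Mod
import Cfsg.Agent.Lib.PermCert.PL
import Cfsg.Agent.Lib.Cert.ON.T6.Cl
import Cfsg.Agent.Lib.Cert.ON.T7.Cl

set_option autoImplicit false
set_option maxRecDepth 100000

namespace Cfsg.Agent.Ct.ON

open Cfsg.Agent.PC

open Cfsg.Agent.Fi Cfsg.Agent.Ct
namespace L1
def t0x : TN := (TN.leaf (nat_lit 337))
def tt : TN := (TN.node (TN.node (TN.node (TN.node t0x (TN.leaf (nat_lit 0))) (TN.node (TN.leaf (nat_lit 0)) (TN.leaf (nat_lit 0)))) (TN.node (TN.node (TN.leaf (nat_lit 0)) (TN.leaf (nat_lit 0))) (TN.node (TN.leaf (nat_lit 0)) (TN.leaf (nat_lit 0))))) (TN.node (TN.node (TN.node (TN.leaf (nat_lit 0)) (TN.leaf (nat_lit 0))) (TN.node (TN.leaf (nat_lit 0)) (TN.leaf (nat_lit 0)))) (TN.node (TN.node (TN.leaf (nat_lit 0)) (TN.leaf (nat_lit 0))) (TN.node (TN.leaf (nat_lit 0)) (TN.leaf (nat_lit 0))))))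
noncomputable def T (j c : ℕ) : ℕ := getL tt (nat_lit 5) (nat_lit 1) j c
noncomputable def E (j c : ℕ) : ℕ := getL tt (nat_lit 5) (nat_lit 31) j c
theorem T_eq (j c : ℕ) : T j c = E j c % 2 :=
  getL_mod (a := 1) (b := 5) _ _ (by norm_num) (by norm_num) (by norm_num) (by norm_num) j c
def rels : List (List ℕ) := []
def X_t : TN := (TN.leaf (nat_lit 0))
noncomputable def X (i : ℕ) : ℕ := get9 X_t (nat_lit 1) (nat_lit 1) i
def Jp_t : TN := (TN.leaf (nat_lit 0))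
noncomputable def Jp (i : ℕ) : ℕ := get9 Jp_t (nat_lit 1) (nat_lit 1) i
def J_t : TN := (TN.leaf (nat_lit 0))
noncomputable def J (k : ℕ) : ℕ := getV J_t Jp k
def Pa_t : TN := (TN.leaf (nat_lit 2048))
noncomputable def Pa (i : ℕ) : ℕ := get9 Pa_t (nat_lit 6) (nat_lit 63) i
def W_t : TL := (TL.leaf [])
noncomputable def W (i : ℕ) : List ℕ := TL.get W_t i
def WA_t : TL := (TL.leaf [nat_lit 0])
noncomputable def WA (i : ℕ) : List ℕ := TL.get WA_t i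
noncomputable def row : ℕ → ℕ := hRow (nat_lit 1) (nat_lit 1) (nat_lit 0) (nat_lit 2) (nat_lit 4) (nat_lit 8) (nat_lit 32) (nat_lit 32) (nat_lit 0) E X Pa (fun j => j) (wfun (nat_lit 0) W_t)
noncomputable def aux : ℕ → ℕ := hAux (nat_lit 2) (nat_lit 1) (nat_lit 2) (nat_lit 8) (nat_lit 32) (nat_lit 2) (nat_lit 2) (nat_lit 32) (nat_lit 0) E X J Pa (fun j => j) WA_t.get
theorem r0 : Nat.beq (rng row (nat_lit 0) (nat_lit 2)) (nat_lit 0) = true := by decide +kernel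
theorem rows : ∀ i < 2, row i = 0 := by
  have h := zero_lt_zero row
  have h := zero_lt_add (a := (nat_lit 0)) (n := (nat_lit 2)) (b := (nat_lit 2)) h r0 rfl
  exact h
theorem auxs : ∀ i < 0, aux i = 0 := by
  have h := zero_lt_zero aux
  exact h
theorem closes.{u} : ClosesT.{u} (fun j => j) rels 1 0 2 T :=
  hc_closes (N1 := (nat_lit 1)) rfl T_eq (by decide +kernel) rows auxs
theorem T_inv : ∀ c < 2, ∀ j < 1, T j c < 2 ∧ T j (T j c) = c := 
  hc_inv (inv := (fun j => j)) (N1 := (nat_lit 1)) rfl T_eq rows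
end L1

namespace L2
def t0x : TN := (TN.leaf (nat_lit 0x772d462b44294228))
def t1x : TN := (TN.leaf (nat_lit 0x2e472c452a432841))
def tt : TN := (TN.node (TN.node (TN.node (TN.node t0x (TN.leaf (nat_lit 0))) (TN.node (TN.leaf (nat_lit 0)) (TN.leaf (nat_lit 0)))) (TN.node (TN.node (TN.leaf (nat_lit 0)) (TN.leaf (nat_lit 0))) (TN.node (TN.leaf (nat_lit 0)) (TN.leaf (nat_lit 0))))) (TN.node (TN.node (TN.node t1x (TN.leaf (nat_lit 0))) (TN.node (TN.leaf (nat_lit 0)) (TN.leaf (nat_lit 0)))) (TN.node (TN.node (TN.leaf (nat_lit 0)) (TN.leaf (nat_lit 0))) (TN.node (TN.leaf (nat_lit 0)) (TN.leaf (nat_lit 0))))))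
noncomputable def T (j c : ℕ) : ℕ := getL tt (nat_lit 8) (nat_lit 7) j c
noncomputable def E (j c : ℕ) : ℕ := getL tt (nat_lit 8) (nat_lit 255) j c
theorem T_eq (j c : ℕ) : T j c = E j c % 8 :=
  getL_mod (a := 3) (b := 8) _ _ (by norm_num) (by norm_num) (by norm_num) (by norm_num) j c
def rels : List (List ℕ) := [[nat_lit 0, nat_lit 1, nat_lit 0, nat_lit 1, nat_lit 0, nat_lit 1, nat_lit 0, nat_lit 1, nat_lit 0, nat_lit 1, nat_lit 0, nat_lit 1, nat_lit 0, nat_lit 1, nat_lit 0, nat_lit 1]]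
def X_t : TN := (TN.leaf (nat_lit 0))
noncomputable def X (i : ℕ) : ℕ := get9 X_t (nat_lit 1) (nat_lit 1) i
def Jp_t : TN := (TN.leaf (nat_lit 0))
noncomputable def Jp (i : ℕ) : ℕ := get9 Jp_t (nat_lit 1) (nat_lit 1) i
def J_t : TN := (TN.leaf (nat_lit 0))
noncomputable def J (k : ℕ) : ℕ := getV J_t Jp k
def Pa_t : TN := (TN.leaf (nat_lit 0xf8750b06306851020400))
noncomputable def Pa (i : ℕ) : ℕ := get9 Pa_t (nat_lit 10) (nat_lit 1023) i
def W_t : TL := (TL.leaf [nat_lit 1, nat_lit 0, nat_lit 1, nat_lit 0, nat_lit 1, nat_lit 0, nat_lit 1, nat_lit 0, nat_lit 1, nat_lit 0, nat_lit 1, nat_lit 0, nat_lit 1, nat_lit 0, nat_lit 1, nat_lit 0, nat_lit 1])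
noncomputable def W (i : ℕ) : List ℕ := TL.get W_t i
def WA_t : TL := (TL.leaf [nat_lit 0])
noncomputable def WA (i : ℕ) : List ℕ := TL.get WA_t i
noncomputable def row : ℕ → ℕ := hRow (nat_lit 7) (nat_lit 2) (nat_lit 1) (nat_lit 8) (nat_lit 4) (nat_lit 32) (nat_lit 128) (nat_lit 128) (nat_lit 0) E X Pa (fun j => j) (wfun (nat_lit 1) W_t)
noncomputable def aux : ℕ → ℕ := hAux (nat_lit 8) (nat_lit 2) (nat_lit 8) (nat_lit 32) (nat_lit 128) (nat_lit 2) (nat_lit 2) (nat_lit 128) (nat_lit 0) E X J Pa (fun j => j) WA_t.get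
theorem r0 : Nat.beq (rng row (nat_lit 0) (nat_lit 8)) (nat_lit 0) = true := by decide +kernel
theorem rows : ∀ i < 8, row i = 0 := by
  have h := zero_lt_zero row
  have h := zero_lt_add (a := (nat_lit 0)) (n := (nat_lit 8)) (b := (nat_lit 8)) h r0 rfl
  exact h
theorem auxs : ∀ i < 0, aux i = 0 := by
  have h := zero_lt_zero aux
  exact h
theorem closes.{u} : ClosesT.{u} (fun j => j) rels 2 1 8 T :=
  hc_closes (N1 := (nat_lit 7)) rfl T_eq (by decide +kernel) rows auxs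
theorem T_inv : ∀ c < 8, ∀ j < 2, T j c < 8 ∧ T j (T j c) = c := 
  hc_inv (inv := (fun j => j)) (N1 := (nat_lit 7)) rfl T_eq rows
end L2

namespace L3
def t0x : TN := (TN.leaf (nat_lit 6802))
def t1x : TN := (TN.leaf (nat_lit 7058))
def t2x : TN := (TN.leaf (nat_lit 2337))
def tt : TN := (TN.node (TN.node (TN.node (TN.node t0x (TN.leaf (nat_lit 0))) (TN.node (TN.leaf (nat_lit 0)) (TN.leaf (nat_lit 0)))) (TN.node (TN.node t2x (TN.leaf (nat_lit 0))) (TN.node (TN.leaf (nat_lit 0)) (TN.leaf (nat_lit 0))))) (TN.node (TN.node (TN.node t1x (TN.leaf (nat_lit 0))) (TN.node (TN.leaf (nat_lit 0)) (TN.leaf (nat_lit 0)))) (TN.node (TN.node (TN.leaf (nat_lit 0)) (TN.leaf (nat_lit 0))) (TN.node (TN.leaf (nat_lit 0)) (TN.leaf (nat_lit 0))))))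
noncomputable def T (j c : ℕ) : ℕ := getL tt (nat_lit 7) (nat_lit 1) j c
noncomputable def E (j c : ℕ) : ℕ := getL tt (nat_lit 7) (nat_lit 127) j c
theorem T_eq (j c : ℕ) : T j c = E j c % 2 :=
  getL_mod (a := 1) (b := 7) _ _ (by norm_num) (by norm_num) (by norm_num) (by norm_num) j c
def rels : List (List ℕ) := [[nat_lit 2, nat_lit 0, nat_lit 2, nat_lit 0], [nat_lit 2, nat_lit 1, nat_lit 2, nat_lit 1], [nat_lit 0, nat_lit 1, nat_lit 0, nat_lit 1, nat_lit 0, nat_lit 1, nat_lit 0, nat_lit 1, nat_lit 0, nat_lit 1, nat_lit 0, nat_lit 1, nat_lit 0, nat_lit 1, nat_lit 0, nat_lit 1]]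
def X_t : TN := (TN.leaf (nat_lit 0))
noncomputable def X (i : ℕ) : ℕ := get9 X_t (nat_lit 1) (nat_lit 1) i
def Jp_t : TN := (TN.leaf (nat_lit 0))
noncomputable def Jp (i : ℕ) : ℕ := get9 Jp_t (nat_lit 1) (nat_lit 1) i
def J_t : TN := (TN.leaf (nat_lit 0))
noncomputable def J (k : ℕ) : ℕ := getV J_t Jp k
def Pa_t : TN := (TN.leaf (nat_lit 2176))
noncomputable def Pa (i : ℕ) : ℕ := get9 Pa_t (nat_lit 6) (nat_lit 63) i
def W_t : TL := (TL.node (TL.leaf [nat_lit 3, nat_lit 0, nat_lit 2, nat_lit 0, nat_lit 2]) (TL.leaf [nat_lit 2051, nat_lit 1, nat_lit 2, nat_lit 1, nat_lit 2]))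
noncomputable def W (i : ℕ) : List ℕ := TL.get W_t i
def WA_t : TL := (TL.leaf [nat_lit 0])
noncomputable def WA (i : ℕ) : List ℕ := TL.get WA_t i
noncomputable def row : ℕ → ℕ := hRow (nat_lit 1) (nat_lit 3) (nat_lit 2) (nat_lit 2) (nat_lit 8) (nat_lit 16) (nat_lit 32) (nat_lit 32) (nat_lit 0) E X Pa (fun j => j) (wfun (nat_lit 2) W_t)
noncomputable def aux : ℕ → ℕ := hAux (nat_lit 2) (nat_lit 3) (nat_lit 2) (nat_lit 16) (nat_lit 32) (nat_lit 2) (nat_lit 2) (nat_lit 32) (nat_lit 0) E X J Pa (fun j => j) WA_t.get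
theorem r0 : Nat.beq (rng row (nat_lit 0) (nat_lit 2)) (nat_lit 0) = true := by decide +kernel
theorem rows : ∀ i < 2, row i = 0 := by
  have h := zero_lt_zero row
  have h := zero_lt_add (a := (nat_lit 0)) (n := (nat_lit 2)) (b := (nat_lit 2)) h r0 rfl
  exact h
theorem auxs : ∀ i < 0, aux i = 0 := by
  have h := zero_lt_zero aux
  exact h
theorem closes.{u} : ClosesT.{u} (fun j => j) rels 3 2 2 T :=
  hc_closes (N1 := (nat_lit 1)) rfl T_eq (by decide +kernel) rows auxs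
theorem T_inv : ∀ c < 2, ∀ j < 3, T j c < 2 ∧ T j (T j c) = c := 
  hc_inv (inv := (fun j => j)) (N1 := (nat_lit 1)) rfl T_eq rows
end L3

namespace L4
def t0x : TN := (TN.leaf (nat_lit 10))
def t1x : TN := (TN.leaf (nat_lit 10))
def t2x : TN := (TN.leaf (nat_lit 10))
def t3x : TN := (TN.leaf (nat_lit 20))
def tt : TN := (TN.node (TN.node (TN.node (TN.node t0x (TN.leaf (nat_lit 0))) (TN.node (TN.leaf (nat_lit 0)) (TN.leaf (nat_lit 0)))) (TN.node (TN.node t2x (TN.leaf (nat_lit 0))) (TN.node (TN.leaf (nat_lit 0)) (TN.leaf (nat_lit 0))))) (TN.node (TN.node (TN.node t1x (TN.leaf (nat_lit 0))) (TN.node (TN.leaf (nat_lit 0)) (TN.leaf (nat_lit 0)))) (TN.node (TN.node t3x (TN.leaf (nat_lit 0))) (TN.node (TN.leaf (nat_lit 0)) (TN.leaf (nat_lit 0))))))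
noncomputable def T (j c : ℕ) : ℕ := getL tt (nat_lit 5) (nat_lit 1) j c
noncomputable def E (j c : ℕ) : ℕ := getL tt (nat_lit 5) (nat_lit 31) j c
theorem T_eq (j c : ℕ) : T j c = E j c % 2 :=
  getL_mod (a := 1) (b := 5) _ _ (by norm_num) (by norm_num) (by norm_num) (by norm_num) j c
def rels : List (List ℕ) := [[nat_lit 2, nat_lit 0, nat_lit 2, nat_lit 0], [nat_lit 2, nat_lit 1, nat_lit 2, nat_lit 1], [nat_lit 2, nat_lit 3, nat_lit 2, nat_lit 3], [nat_lit 0, nat_lit 1, nat_lit 0, nat_lit 1, nat_lit 0, nat_lit 1, nat_lit 0, nat_lit 1, nat_lit 0, nat_lit 1, nat_lit 0, nat_lit 1, nat_lit 0, nat_lit 1, nat_lit 0, nat_lit 1], [nat_lit 0, nat_lit 3, nat_lit 0, nat_lit 3], [nat_lit 1, nat_lit 3, nat_lit 1, nat_lit 3], [nat_lit 0, nat_lit 1, nat_lit 0, nat_lit 1, nat_lit 0, nat_lit 1, nat_lit 0, nat_lit 1, nat_lit 3, nat_lit 2]]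
def X_t : TN := (TN.leaf (nat_lit 0))
noncomputable def X (i : ℕ) : ℕ := get9 X_t (nat_lit 1) (nat_lit 1) i
def Jp_t : TN := (TN.leaf (nat_lit 0))
noncomputable def Jp (i : ℕ) : ℕ := get9 Jp_t (nat_lit 1) (nat_lit 1) i
def J_t : TN := (TN.leaf (nat_lit 0))
noncomputable def J (k : ℕ) : ℕ := getV J_t Jp k
def Pa_t : TN := (TN.leaf (nat_lit 0))
noncomputable def Pa (i : ℕ) : ℕ := get9 Pa_t (nat_lit 1) (nat_lit 1) i
def W_t : TL := (TL.leaf [nat_lit 12305, nat_lit 3, nat_lit 2, nat_lit 0, nat_lit 1, nat_lit 0, nat_lit 1, nat_lit 0, nat_lit 1, nat_lit 0, nat_lit 1])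
noncomputable def W (i : ℕ) : List ℕ := TL.get W_t i
def WA_t : TL := (TL.leaf [nat_lit 0])
noncomputable def WA (i : ℕ) : List ℕ := TL.get WA_t i
noncomputable def row : ℕ → ℕ := hRow (nat_lit 0) (nat_lit 4) (nat_lit 3) (nat_lit 2) (nat_lit 4) (nat_lit 8) (nat_lit 16) (nat_lit 16) (nat_lit 0) E X Pa (fun j => j) (wfun (nat_lit 1) W_t)
noncomputable def aux : ℕ → ℕ := hAux (nat_lit 1) (nat_lit 4) (nat_lit 2) (nat_lit 8) (nat_lit 16) (nat_lit 2) (nat_lit 2) (nat_lit 16) (nat_lit 0) E X J Pa (fun j => j) WA_t.get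
theorem r0 : Nat.beq (rng row (nat_lit 0) (nat_lit 1)) (nat_lit 0) = true := by decide +kernel
theorem rows : ∀ i < 1, row i = 0 := by
  have h := zero_lt_zero row
  have h := zero_lt_add (a := (nat_lit 0)) (n := (nat_lit 1)) (b := (nat_lit 1)) h r0 rfl
  exact h
theorem auxs : ∀ i < 0, aux i = 0 := by
  have h := zero_lt_zero aux
  exact h
theorem closes.{u} : ClosesT.{u} (fun j => j) rels 4 3 1 T :=
  hc_closes (N1 := (nat_lit 0)) rfl T_eq (by decide +kernel) rows auxs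
theorem T_inv : ∀ c < 1, ∀ j < 4, T j c < 1 ∧ T j (T j c) = c := 
  hc_inv (inv := (fun j => j)) (N1 := (nat_lit 0)) rfl T_eq rows
end L4

namespace L5
def t0x : TN := (TN.leaf (nat_lit 0x4324040814a8c4c9310b042b623480f203958aa01d5889224424400c80632144212008420))
def t1x : TN := (TN.leaf (nat_lit 0x2c13a95042f10b940d204881142c100a5020c4c109904b4014809329c422428c8043104420))
def t2x : TN := (TN.leaf (nat_lit 0x301210bee7477c442c204d9ce10a881055ac80d9019168109220910888071084805200c420))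
def t3x : TN := (TN.leaf (nat_lit 0x2d14a4ce9b296c6530943e10e84b606c71adc6a76a5868649d90654955a4448d1023184420))
def t4x : TN := (TN.leaf (nat_lit 0x34d4c3cf011b54a80db03a8cf93c0429109c4262030425202c80a2021144338ccc21080801))
def tt : TN := (TN.node (TN.node (TN.node (TN.node t0x (TN.leaf (nat_lit 0))) (TN.node t4x (TN.leaf (nat_lit 0)))) (TN.node (TN.node t2x (TN.leaf (nat_lit 0))) (TN.node (TN.leaf (nat_lit 0)) (TN.leaf (nat_lit 0))))) (TN.node (TN.node (TN.node t1x (TN.leaf (nat_lit 0))) (TN.node (TN.leaf (nat_lit 0)) (TN.leaf (nat_lit 0)))) (TN.node (TN.node t3x (TN.leaf (nat_lit 0))) (TN.node (TN.leaf (nat_lit 0)) (TN.leaf (nat_lit 0))))))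
noncomputable def T (j c : ℕ) : ℕ := getL tt (nat_lit 14) (nat_lit 31) j c
noncomputable def E (j c : ℕ) : ℕ := getL tt (nat_lit 14) (nat_lit 16383) j c
theorem T_eq (j c : ℕ) : T j c = E j c % 32 :=
  getL_mod (a := 5) (b := 14) _ _ (by norm_num) (by norm_num) (by norm_num) (by norm_num) j c
def rels : List (List ℕ) := [[nat_lit 2, nat_lit 4, nat_lit 2, nat_lit 4, nat_lit 2, nat_lit 4], [nat_lit 2, nat_lit 0, nat_lit 2, nat_lit 0], [nat_lit 2, nat_lit 1, nat_lit 2, nat_lit 1], [nat_lit 2, nat_lit 3, nat_lit 2, nat_lit 3], [nat_lit 4, nat_lit 0, nat_lit 4, nat_lit 0, nat_lit 4, nat_lit 0], [nat_lit 4, nat_lit 1, nat_lit 4, nat_lit 1], [nat_lit 4, nat_lit 3, nat_lit 4, nat_lit 3], [nat_lit 0, nat_lit 1, nat_lit 0, nat_lit 1, nat_lit 0, nat_lit 1, nat_lit 0, nat_lit 1, nat_lit 0, nat_lit 1, nat_lit 0, nat_lit 1, nat_lit 0, nat_lit 1, nat_lit 0, nat_lit 1], [nat_lit 0, nat_lit 3, nat_lit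 0, nat_lit 3], [nat_lit 1, nat_lit 3, nat_lit 1, nat_lit 3], [nat_lit 0, nat_lit 1, nat_lit 0, nat_lit 1, nat_lit 0, nat_lit 1, nat_lit 0, nat_lit 1, nat_lit 3, nat_lit 2]]
def X_t : TN := (TN.leaf (nat_lit 0))
noncomputable def X (i : ℕ) : ℕ := get9 X_t (nat_lit 1) (nat_lit 1) i
def Jp_t : TN := (TN.leaf (nat_lit 0))
noncomputable def Jp (i : ℕ) : ℕ := get9 Jp_t (nat_lit 1) (nat_lit 1) i
def J_t : TN := (TN.leaf (nat_lit 0))
noncomputable def J (k : ℕ) : ℕ := getV J_t Jp k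
def Pa_t : TN := (TN.leaf (nat_lit 0x132087943c5dc2ec276032c1944c9453a29914c28544212100c446212091040408000))
noncomputable def Pa (i : ℕ) : ℕ := get9 Pa_t (nat_lit 13) (nat_lit 8191) i
def W_t : TL := (TL.node (TL.node (TL.node (TL.node (TL.node (TL.leaf [nat_lit 10243, nat_lit 1, nat_lit 4, nat_lit 1, nat_lit 4]) (TL.leaf [nat_lit 20487, nat_lit 1, nat_lit 0, nat_lit 1, nat_lit 0, nat_lit 1, nat_lit 3, nat_lit 2, nat_lit 0, nat_lit 1, nat_lit 0])) (TL.leaf [nat_lit 10241, nat_lit 4, nat_lit 1, nat_lit 4, nat_lit 1])) (TL.node (TL.leaf [nat_lit 8193, nat_lit 4, nat_lit 0, nat_lit 4, nat_lit 0, nat_lit 4, nat_lit 0]) (TL.leaf [nat_lit 2049, nat_lit 2, nat_lit 0, nat_lit 2, nat_lit 0]))) (TL.node (TL.node (TL.leaf [nat_lit 2051, nat_lit 0, nat_lit 2, nat_lit 0, nat_lit 2]) (TL.leaf [nat_lit 8195, nat_lit 0, nat_lit 4, nat_lit 0, nat_lit 4, nat_lit 0, nat_lit 4])) (TL.node (TL.leaf [nat_lit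 16387, nat_lit 3, nat_lit 0, nat_lit 3, nat_lit 0]) (TL.leaf [nat_lit 20499, nat_lit 2, nat_lit 0, nat_lit 1, nat_lit 0, nat_lit 1, nat_lit 0, nat_lit 1, nat_lit 0, nat_lit 1, nat_lit 3])))) (TL.node (TL.node (TL.node (TL.node (TL.leaf [nat_lit 12291, nat_lit 3, nat_lit 4, nat_lit 3, nat_lit 4]) (TL.leaf [nat_lit 20482, nat_lit 2, nat_lit 3, nat_lit 1, nat_lit 0, nat_lit 1, nat_lit 0, nat_lit 1, nat_lit 0, nat_lit 1, nat_lit 0])) (TL.leaf [nat_lit 1, nat_lit 2, nat_lit 4, nat_lit 2, nat_lit 4, nat_lit 2, nat_lit 4])) (TL.node (TL.leaf [nat_lit 3, nat_lit 4, nat_lit 2, nat_lit 4, nat_lit 2, nat_lit 4, nat_lit 2]) (TL.leaf [nat_lit 4097, nat_lit 2, nat_lit 1, nat_lit 2, nat_lit 1]))) (TL.node (TL.node (TL.leaf [nat_lit 4099, nat_lit 1, nat_lit 2, nat_lit 1, nat_lit 2]) (TL.leaf [nat_lit 18435, nat_lit 3, nat_lit 1, nat_lit 3, nat_lit 1])) (TL.node (TL.leaf [nat_lit 6147, nat_lit 3, nat_lit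 2, nat_lit 3, nat_lit 2]) (TL.leaf [nat_lit 20481, nat_lit 0, nat_lit 1, nat_lit 0, nat_lit 1, nat_lit 0, nat_lit 1, nat_lit 0, nat_lit 1, nat_lit 3, nat_lit 2])))))
noncomputable def W (i : ℕ) : List ℕ := TL.get W_t i
def WA_t : TL := (TL.leaf [nat_lit 0])
noncomputable def WA (i : ℕ) : List ℕ := TL.get WA_t i
noncomputable def row : ℕ → ℕ := hRow (nat_lit 20) (nat_lit 5) (nat_lit 4) (nat_lit 32) (nat_lit 32) (nat_lit 1024) (nat_lit 512) (nat_lit 512) (nat_lit 0) E X Pa (fun j => j) (wfun (nat_lit 18) W_t)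
noncomputable def aux : ℕ → ℕ := hAux (nat_lit 21) (nat_lit 5) (nat_lit 32) (nat_lit 1024) (nat_lit 512) (nat_lit 2) (nat_lit 2) (nat_lit 512) (nat_lit 0) E X J Pa (fun j => j) WA_t.get
theorem r0 : Nat.beq (rng row (nat_lit 0) (nat_lit 21)) (nat_lit 0) = true := by decide +kernel
theorem rows : ∀ i < 21, row i = 0 := by
  have h := zero_lt_zero row
  have h := zero_lt_add (a := (nat_lit 0)) (n := (nat_lit 21)) (b := (nat_lit 21)) h r0 rfl
  exact h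
theorem auxs : ∀ i < 0, aux i = 0 := by
  have h := zero_lt_zero aux
  exact h
theorem closes.{u} : ClosesT.{u} (fun j => j) rels 5 4 21 T :=
  hc_closes (N1 := (nat_lit 20)) rfl T_eq (by decide +kernel) rows auxs
theorem T_inv : ∀ c < 21, ∀ j < 5, T j c < 21 ∧ T j (T j c) = c := 
  hc_inv (inv := (fun j => j)) (N1 := (nat_lit 20)) rfl T_eq rows
end L5

def rels : List (List ℕ) := [[nat_lit 2, nat_lit 4, nat_lit 2, nat_lit 4, nat_lit 2, nat_lit 4], [nat_lit 2, nat_lit 0, nat_lit 2, nat_lit 0], [nat_lit 2, nat_lit 1, nat_lit 2, nat_lit 1], [nat_lit 2, nat_lit 5, nat_lit 2, nat_lit 5], [nat_lit 2, nat_lit 3, nat_lit 2, nat_lit 3], [nat_lit 4, nat_lit 0, nat_lit 4, nat_lit 0, nat_lit 4, nat_lit 0], [nat_lit 4, nat_lit 1, nat_lit 4, nat_lit 1], [nat_lit 4, nat_lit 5, nat_lit 4, nat_lit 5], [nat_lit 4, nat_lit 3, nat_lit 4, nat_lit 3], [nat_lit 0, nat_lit 1, nat_lit 0, nat_lit 1, nat_lit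 0, nat_lit 1, nat_lit 0, nat_lit 1, nat_lit 0, nat_lit 1, nat_lit 0, nat_lit 1, nat_lit 0, nat_lit 1, nat_lit 0, nat_lit 1], [nat_lit 0, nat_lit 5, nat_lit 0, nat_lit 5], [nat_lit 0, nat_lit 3, nat_lit 0, nat_lit 3], [nat_lit 1, nat_lit 5, nat_lit 1, nat_lit 5, nat_lit 1, nat_lit 5], [nat_lit 1, nat_lit 3, nat_lit 1, nat_lit 3], [nat_lit 5, nat_lit 3, nat_lit 5, nat_lit 3, nat_lit 5, nat_lit 3], [nat_lit 7, nat_lit 7, nat_lit 3, nat_lit 2], [nat_lit 0, nat_lit 1, nat_lit 0, nat_lit 1, nat_lit 0, nat_lit 1, nat_lit 0, nat_lit 1, nat_lit 3, nat_lit 2], [nat_lit 6, nat_lit 1, nat_lit 6, nat_lit 1, nat_lit 0, nat_lit 1, nat_lit 7, nat_lit 1, nat_lit 7, nat_lit 0], [nat_lit 6, nat_lit 0, nat_lit 6, nat_lit 0, nat_lit 1, nat_lit 0, nat_lit 7, nat_lit 0, nat_lit 7, nat_lit 1], [nat_lit 6, nat_lit 1, nat_lit 0, nat_lit 4, nat_lit 6, nat_lit 1, nat_lit 0, nat_lit 4, nat_lit 6, nat_lit 1, nat_lit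 0, nat_lit 4, nat_lit 6, nat_lit 1, nat_lit 0, nat_lit 4, nat_lit 6, nat_lit 1, nat_lit 0, nat_lit 4], [nat_lit 0, nat_lit 6, nat_lit 0, nat_lit 4, nat_lit 6, nat_lit 4, nat_lit 0, nat_lit 6, nat_lit 0, nat_lit 4, nat_lit 6], [nat_lit 1, nat_lit 6, nat_lit 1, nat_lit 5, nat_lit 6, nat_lit 5, nat_lit 1, nat_lit 6, nat_lit 1, nat_lit 5, nat_lit 6]]
def inv (i : ℕ) : ℕ := Nat.land (Nat.shiftRight (nat_lit 0xdec688) (Nat.mul (nat_lit 3) i)) (nat_lit 7)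
theorem ub1 {Γ : Type} [Group Γ] {g : ℕ → Γ} (h1 : InvOK g inv 8) (h2 : ∀ w ∈ rels, ev g w = 1) : CardLE (gen g 1) 2 :=
  tw h1 h2 L1.closes (by decide +kernel) (cardLE_gen_zero g)
theorem ub2 {Γ : Type} [Group Γ] {g : ℕ → Γ} (h1 : InvOK g inv 8) (h2 : ∀ w ∈ rels, ev g w = 1) : CardLE (gen g 2) 16 :=
  tw h1 h2 L2.closes (by decide +kernel) (ub1 h1 h2)
theorem ub3 {Γ : Type} [Group Γ] {g : ℕ → Γ} (h1 : InvOK g inv 8) (h2 : ∀ w ∈ rels, ev g w = 1) : CardLE (gen g 3) 32 :=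
  tw h1 h2 L3.closes (by decide +kernel) (ub2 h1 h2)
theorem ub4 {Γ : Type} [Group Γ] {g : ℕ → Γ} (h1 : InvOK g inv 8) (h2 : ∀ w ∈ rels, ev g w = 1) : CardLE (gen g 4) 32 :=
  tw h1 h2 L4.closes (by decide +kernel) (ub3 h1 h2)
theorem ub5 {Γ : Type} [Group Γ] {g : ℕ → Γ} (h1 : InvOK g inv 8) (h2 : ∀ w ∈ rels, ev g w = 1) : CardLE (gen g 5) 672 :=
  tw h1 h2 L5.closes (by decide +kernel) (ub4 h1 h2)
theorem ub6 {Γ : Type} [Group Γ] {g : ℕ → Γ} (h1 : InvOK g inv 8) (h2 : ∀ w ∈ rels, ev g w = 1) : CardLE (gen g 6) 3753792 :=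
  tw h1 h2 L6.closes (by decide +kernel) (ub5 h1 h2)
theorem ub8 {Γ : Type} [Group Γ] {g : ℕ → Γ} (h1 : InvOK g inv 8) (h2 : ∀ w ∈ rels, ev g w = 1) : CardLE (gen g 8) 460815505920 :=
  tw h1 h2 L7.closes (by decide +kernel) (ub6 h1 h2)

end Cfsg.Agent.Ct.ON
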