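import Cfsg.Agent.Lib.Cert.ON.D

set_option autoImplicit false
set_option maxRecDepth 100000

namespace Cfsg.Agent.Ct.ON

open Cfsg.Agent.PC

theorem ya100800 : Nat.beq (rng x1 (nat_lit 100800) (nat_lit 900)) (nat_lit 0) = true := by decide +kernel
theorem ya101700 : Nat.beq (rng x1 (nat_lit 101700) (nat_lit 900)) (nat_lit 0) = true := by decide +kernel
theorem ya102600 : Nat.beq (rng x1 (nat_lit 102600) (nat_lit 900)) (nat_lit 0) = true := by decide +kernel
theorem ya103500 : Nat.beq (rng x1 (nat_lit 103500) (nat_lit 900)) (nat_lit 0) = true := by decide +kernel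
theorem ya104400 : Nat.beq (rng x1 (nat_lit 104400) (nat_lit 900)) (nat_lit 0) = true := by decide +kernel
theorem ya105300 : Nat.beq (rng x1 (nat_lit 105300) (nat_lit 900)) (nat_lit 0) = true := by decide +kernel
theorem ya106200 : Nat.beq (rng x1 (nat_lit 106200) (nat_lit 900)) (nat_lit 0) = true := by decide +kernel
theorem ya107100 : Nat.beq (rng x1 (nat_lit 107100) (nat_lit 900)) (nat_lit 0) = true := by decide +kernel

end Cfsg.Agent.Ct.ON
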